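import Cfsg.Agent.MK.S4.Gen
import Cfsg.Agent.MK.S.Defs
import Cfsg.Agent.Schreier.He
import Cfsg.Agent.QTNorm.SporJ4
import Cfsg.Agent.TAB.He.Main
import Cfsg.Agent.S2075

/-!
# MK, the row `He` (helper88)
-/

set_option autoImplicit false
set_option maxRecDepth 100000

namespace Cfsg.Agent.MK.S4

namespace HeRow

open Cfsg Subgroup Cfsg.Agent.MK.T Cfsg.Agent.MK.S Cfsg.Agent.TAB Cfsg.Agent.TAB.He Cfsg.Agent.TAB.Eng
  Cfsg.Agent.TAB.Use Cfsg.Agent.TAB.Co Cfsg.Agent.H447.CTab Cfsg.Agent.H825.HT.He7 Cfsg.Agent.H300.Cls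
  Cfsg.Agent.Characters Cfsg.Agent.SporadicB.HePerm Cfsg.Agent.H997.OutHe Cfsg.Agent.FixBN.HeStab
  Cfsg.Agent.Schreier.UTFive

/-- the table with rational classes as types -/
theorem tab : ∃ T : TD Spor.He D, ON.Rat T ∧ Tab T RR := by
  have := He.finite
  have h1 : E.Ok CT := ⟨X_ord, fun _ => rfl, fun v hv => by
    obtain ⟨w, hw, rfl⟩ := List.mem_map.1 hv
    refine ⟨_, gc_seeds w hw, fun i => ?_⟩
    rw [onX, List.getD_eq_getElem _ _ (by rw [List.length_map]; exact i.2), List.getElem_map,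
      ← List.getD_eq_getElem _ 0, ← ff_X]
    rfl⟩
  obtain ⟨T, hm, hT⟩ := Sm1.ofTab (D := D) h1 KFacts.He.Classes.card_he (PL := [2, 3, 5, 7, 11, 13, 17, 19, 23])
    (X := [(9, 2), (10, 2), (11, 2), (17, 2)]) (by decide +kernel) fun i p h => by
      have h2 : p = 2 ∧ Q2.getD (F25.getD i 0) 0 = D.pwf (F25.getD i 0) 2 := by
        simp only [List.mem_cons, Prod.mk.injEq, List.not_mem_nil, or_false] at h
        rcases h with ⟨h, rfl⟩ | ⟨h, rfl⟩ | ⟨h, rfl⟩ | ⟨h, rfl⟩ <;> rw [h] <;> exact ⟨rfl, rfl⟩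
      rw [h2.1]
      exact (ff_cl _).trans ((ff_sq _).trans ((congrArg (Q2.getD · 0) (ff_X i)).trans h2.2))
  have h2 : ∀ g, T.ty g = ff g := fun g => (hT g).trans (ff_cl g)
  have h3 : ON.Rat T := fun g h e => by
    obtain ⟨m, -, h4⟩ := ff_gal g h (by rwa [← h2, ← h2])
    exact ⟨m, h4⟩
  have h4 : Virt T (nth (List.replicate 25 1)) := (Virt.const 1).congr (by decide +kernel)
  have h5 : ∀ v ∈ seeds.take 3, Virt T (nth v) := fun v hv => by
    have h5 : (fun g => (nth v (T.ty g) : ℂ)) = tv ff v := funext fun g => by rw [nth_eq, h2]; rfl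
    rw [Virt, h5]
    exact gc_seeds v hv
  have h6 : ∀ v ∈ seeds.drop 3, Virt T (nth v) :=
    List.forall_mem_cons.2 ⟨ON.virt_coad (k := 2) hm h3 h4 (by decide +kernel),
      List.forall_mem_singleton.2 (ON.virt_coad (k := 4) hm h3 h4 (by decide +kernel))⟩
  have h7 := Sm1.virt_okC hm.1 (List.take_append_drop 3 seeds ▸ List.forall_mem_append.2 ⟨h5, h6⟩) ok_A
  have h8 := h7 u List.mem_cons_self
  have h9 := virt_half hm h8 (fun p hp => h7 _ (List.mem_cons_of_mem _ (List.of_mem_zip hp).2)) ok_H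
  have h10 : Virt T (nth w2) := (h8.add (h9.smul (-1))).congr (by decide +kernel)
  exact ⟨T, h3, Sm1.tab_of_cls hm (fun r hr => List.forall_mem_append.2
    ⟨fun r hr => h7 r (List.mem_cons_of_mem _ (List.mem_cons_of_mem _ hr)),
      List.forall_mem_cons.2 ⟨h9, List.forall_mem_singleton.2 h10⟩⟩ _ (List.of_mem_zip hr).2) ok_R classes⟩

theorem rho_wd : ∀ w : List Spor.He.Gen, rho (wd w) = wd (w.map sw)
  | [] => map_one rho
  | x :: w => by
    rw [List.map_cons, KFacts.He.Lv.wd_cons, KFacts.He.Lv.wd_cons, map_mul, rho_wd w, rho_gn]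

theorem wd_pow (w : List Spor.He.Gen) (n : ℕ) : wd (powWord w n) = wd w ^ n := powWord_prod _ w n

theorem pow_ne {w : List Spor.He.Gen} {n : ℕ} (p : Fin 2058) (h : act (powWord w n) p ≠ p) : wd w ^ n ≠ 1 := fun e =>
  h (by rw [← phi_wd_apply, wd_pow, e, map_one, Equiv.Perm.one_apply])

theorem conj_of {c w : List Spor.He.Gen} {m : ℕ} (h : chkB (c ++ w.map sw) (powWord w m ++ c) = true) :
    wd c * rho (wd w) = wd w ^ m * wd c := by
  rw [rho_wd, ← wd_pow, ← KFacts.He.Lv.wd_append, ← KFacts.He.Lv.wd_append]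
  exact eq_of_chkB h

/-- an element of order 28 -/
def wa : List Spor.He.Gen := [.g, .d, .f, .c, .b]

/-- an element of order 17 -/
def wb : List Spor.He.Gen := [.b, .c, .d, .g]

theorem ord_a : orderOf (wd wa) = 28 := by
  refine orderOf_eq_of_pow_and_pow_div_prime (by norm_num)
    ((wd_pow _ _).symm.trans (eq_of_chkB (w := []) (by decide +kernel))) fun p hp hd => ?_
  have h1 : p = 2 ∨ p = 7 := by
    have h2 := Nat.le_of_dvd (by norm_num) hd
    interval_cases p <;> first | omega | exact absurd hp (by decide)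
  rcases h1 with rfl | rfl
  · exact pow_ne 0 (by decide +kernel)
  · exact pow_ne 0 (by decide +kernel)

theorem ord_b : orderOf (wd wb) = 17 :=
  haveI : Fact (Nat.Prime 17) := ⟨by norm_num⟩
  orderOf_eq_prime ((wd_pow _ _).symm.trans (eq_of_chkB (w := []) (by decide +kernel)))
    (pow_one (wd wb) ▸ pow_ne 0 (by decide +kernel))

theorem cj_a : wd [.d, .c, .b, .e, .d, .c, .d, .f, .d, .c, .d, .b, .c, .d, .g, .e, .d, .b, .c, .d, .g, .c, .d] *
    rho (wd wa) = wd wa ^ 5 *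
    wd [.d, .c, .b, .e, .d, .c, .d, .f, .d, .c, .d, .b, .c, .d, .g, .e, .d, .b, .c, .d, .g, .c, .d] :=
  conj_of (by decide +kernel)

theorem cj_a' : wd [.c, .b, .c] * rho (wd wa) = wd wa ^ 27 * wd [.c, .b, .c] := conj_of (by decide +kernel)

theorem cj_b : wd [.c, .d, .c, .g, .d, .c, .b, .d, .c, .g, .d, .g, .c, .d, .b, .c, .d, .g, .f, .d, .e, .c] *
    rho (wd wb) = wd wb ^ 3 *
    wd [.c, .d, .c, .g, .d, .c, .b, .d, .c, .g, .d, .g, .c, .d, .b, .c, .d, .g, .f, .d, .e, .c] :=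
  conj_of (by decide +kernel)

/-- the representatives -/
def reps : List ℕ := [0, 1, 2, 3, 4, 5, 6, 7, 8, 9, 10, 11, 12, 13, 14, 15, 17, 19, 21, 23, 25, 27, 29, 31, 32]

theorem reps_ok : repB D RR reps = true := by decide +kernel

set_option synthInstance.maxSize 2000 in
theorem pairs : ∀ j < 33, RR.d j % 2 = 1 → j ∈ [0, 2, 12, 13] ∨ ∃ k < 33, ∃ r ∈ RR.rel, k ≠ j ∧
    (r.1 = [(j, 1), (k, 1)] ∨ r.1 = [(k, 1), (j, 1)]) ∧ (j ∉ reps ∨ k ∉ reps) ∧
    (r.2.getD 21 0 % 2 ≠ 0 ∨ r.2.getD 19 0 % 2 ≠ 0 ∨ (r.2.getD 16 0 - r.2.getD 21 0) % 4 ≠ 0) := by decide +kernel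

theorem f0_rho : f0 rho = 4 := by
  have := He.finite
  obtain ⟨T, hr, χ, hE, hR⟩ := tab
  have ta : T.ty (wd wa) = 21 := (by decide +kernel : ∀ t < 25, 28 = D.ord t → t = 21) _ (T.lt _)
    (ord_a.symm.trans (T.ord _))
  have tb : T.ty (wd wb) = 19 := (by decide +kernel : ∀ t < 25, 17 = D.ord t → t = 19) _ (T.lt _)
    (ord_b.symm.trans (T.ord _))
  have key : ∀ j < 33, RR.d j % 2 = 1 → j ∉ [0, 2, 12, 13] → ¬ ∀ x, χ j (rho x) = χ j x := by
    intro j hj ho hn hf
    obtain ⟨k, hk, r, hm, hne, h, hI, ht⟩ := (pairs j hj ho).resolve_left hn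
    have hi := hE.irr j hj
    have hc := Core.isIrr_isCharacter hi
    have h1 := rat_of_mu ord_a (mu_of_aut (Core.isIrr_isClassFunction hi) hf cj_a)
      (mu_of_aut (Core.isIrr_isClassFunction hi) hf cj_a')
    have h2 := pair_half hE hR hr reps_ok hm hj hk hne h hI (h1 1 (by decide +kernel))
    rw [pow_one, ta] at h2
    rcases ht with ht | ht | ht
    · exact ht (even_of_integral (GaloisBasic.isIntegral_apply hc _) h2)
    · have h3 := pair_half hE hR hr reps_ok hm hj hk hne h hI (rat_of_mu ord_b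
        (mu_of_aut (Core.isIrr_isClassFunction hi) hf cj_b) (mu_of_aut (Core.isIrr_isClassFunction hi) hf cj_b) 1
        (by decide +kernel))
      rw [pow_one, tb] at h3
      exact ht (even_of_integral (GaloisBasic.isIntegral_apply hc _) h3)
    · have h3 := pair_half hE hR hr reps_ok hm hj hk hne h hI (h1 2 (by decide +kernel))
      rw [T.pow, ta] at h3
      exact ht (half_cong hc h2 h3)
  rw [f0_enum hE (q := fun j => decide (j ∈ [0, 2, 12, 13])) fun j hj ho => ?_]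
  · decide +kernel
  rw [decide_eq_true_eq]
  refine ⟨fun h => by_contra fun hn => key j hj (Nat.odd_iff.1 ho) hn h, fun h => ?_⟩
  simp only [List.mem_cons, List.not_mem_nil, or_false] at h
  rcases h with rfl | rfl | rfl | rfl
  · exact enum_fix hE rho hj (by decide +kernel)
  · exact fix_third hE (fun x => DFunLike.congr_fun rho_sq x) (a := 21) (b := 22) hj (by decide) (by decide)
      (by decide) (by decide) (by decide) rfl rfl (by decide +kernel) (key 21 (by decide) rfl (by decide))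
      (key 22 (by decide) rfl (by decide))
  · exact enum_fix hE rho hj (by decide +kernel)
  · exact enum_fix hE rho hj (by decide +kernel)

open Cfsg.Agent.Schreier.He

theorem card_le : Nat.card (Sb x {4, 5, 6, 7, 8, 9}) ≤ 2 ^ 6 := by
  have := He.finite
  have key : ∀ (i : Fin 10) (S : Finset (Fin 10)) (n : ℕ), (∀ s ∈ S, ∀ k, cm i s = some k → k ∈ S) →
      Nat.card (Sb x S) ≤ n → Nat.card (Sb x (insert i S)) ≤ 2 * n := fun i S n hS hn => by
    have h1 := card_mul_index ((Sb x S).subgroupOf (Sb x (insert i S)))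
    rw [Nat.card_congr (subgroupOfEquivOfLe (Sb_mono (Finset.subset_insert i S))).toEquiv] at h1
    rw [← h1, mul_comm]
    exact Nat.mul_le_mul (rel_x.relIndex_insert i S hS) hn
  have h0 : Nat.card (Sb x ∅) ≤ 1 := by
    rw [le_bot_iff.1 (Sb_le (S := ∅) (B := ⊥) fun _ h => absurd h (Finset.notMem_empty _)), card_bot]
  exact key 4 _ _ (by decide) (key 5 _ _ (by decide) (key 6 _ _ (by decide) (key 7 _ _ (by decide)
    (key 8 _ _ (by decide) (key 9 _ _ (by decide) h0)))))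

theorem card_T : Nat.card (Sb x Finset.univ) = 2 ^ 10 := by
  have := He.finite
  have := two_prime
  obtain ⟨n, hn⟩ := IsPGroup.iff_card.1 rel_x.isPGroup
  have h1 := rel_x.card_ge
  have h2 := card_subgroup_dvd_card (Sb x Finset.univ)
  rw [hn] at h1 h2 ⊢
  rw [KFacts.He.Classes.card_he] at h2
  have h3 : 10 ≤ n := (Nat.pow_le_pow_iff_right (by norm_num : 1 < 2)).1 h1
  have h4 : n ≤ 10 := by
    by_contra h
    exact absurd ((pow_dvd_pow 2 (by omega : 11 ≤ n)).trans h2) (by norm_num)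
  rw [le_antisymm h4 h3]

/-- the generators -/
def yy (i : Fin 4) : Spor.He := x (i.castLE (by norm_num))

theorem gn_he : Gn (Sb x Finset.univ) yy := by
  have := He.finite
  refine ⟨fun _ => mem_Sb (Finset.mem_univ _), ?_, fun _ => rel_x.sq _, rel_x.isPGroup,
    S4.le_ab (n := 6) card_T rel_x.commutator_le card_le⟩
  have h : ∀ i j k, cm i j = some k → x i ∈ closure (Set.range yy) → x j ∈ closure (Set.range yy) →
      x k ∈ closure (Set.range yy) := fun i j k hc hi hj => cm_le _ (rel_x.mem_comm i j k _ _ hc hi hj)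
  have h0 : x 0 ∈ closure (Set.range yy) := subset_closure ⟨0, rfl⟩
  have h1 : x 1 ∈ closure (Set.range yy) := subset_closure ⟨1, rfl⟩
  have h2 : x 2 ∈ closure (Set.range yy) := subset_closure ⟨2, rfl⟩
  have h3 : x 3 ∈ closure (Set.range yy) := subset_closure ⟨3, rfl⟩
  have h5 := h 1 2 5 rfl h1 h2
  have h6 := h 2 3 6 rfl h2 h3
  have h8 := h 1 6 8 rfl h1 h6
  refine Sb_le fun i _ => ?_
  fin_cases i
  exacts [h0, h1, h2, h3, h 0 1 4 rfl h0 h1, h5, h6, h 0 5 7 rfl h0 h5, h8, h 0 8 9 rfl h0 h8]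

/-- the images of the generators -/
def im : Fin 4 → List (Fin 4)
  | 0 => [2, 1, 2, 3, 2, 1, 2]
  | 1 => [2]
  | 2 => [1]
  | 3 => [1, 2, 1, 0, 1, 2, 1]

theorem yy_word : ∀ v : List (Fin 4), (v.map yy).prod = wd (v.flatMap fun i => w (i.castLE (by norm_num)))
  | [] => rfl
  | i :: v => by
    rw [List.map_cons, List.prod_cons, List.flatMap_cons, KFacts.He.Lv.wd_append, yy_word v]
    rfl

theorem rho_yy (i : Fin 4) :
    ∃ c ∈ ⁅Sb x Finset.univ, Sb x Finset.univ⁆, rho (yy i) = ((im i).map yy).prod * c := by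
  refine ⟨1, one_mem _, ?_⟩
  rw [mul_one, yy_word]
  refine (rho_wd (w (i.castLE (by norm_num)))).trans (eq_of_chkB ?_)
  revert i
  decide +kernel

end HeRow

open Cfsg.Agent.H997.OutHe Cfsg.Agent.Schreier.UTFive Cfsg.Agent.Schreier.He in
/-- **the row of `He`** -/
theorem he : S.SmS Spor.He := fun _ => by
  have := TAB.He.finite
  have := T.two_prime
  have : IsSimpleGroup Spor.He := S1695.result.1
  have hN := QTNorm.selfN_he (G := Spor.He) ⟨MulEquiv.refl _⟩
  have h1 : Nat.card (Sb x Finset.univ) = 2 ^ (Nat.card Spor.He).factorization 2 := by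
    rw [HeRow.card_T, KFacts.He.Classes.card_he, show 4030387200 = 2 ^ 10 * 3935925 by norm_num,
      S5.fact_two (by decide)]
  refine T.sm_of_two' (S5.center_eq_bot ⟨_, _, rel_x.not_comm 7 3 9 rfl rel_x.ne⟩) S2075.result (Sylow.ofCard _ h1)
    (α := rho) (fun ⟨k, hk⟩ => rho_outer k hk.symm) (HeRow.gn_he.stab HeRow.rho_yy) ((T.m0_iff hN).2 ?_) ?_
  · rw [← T.ab_sylow (Sylow.ofCard _ h1), T.k0_of_degList TAB.He.deg]
    exact Eq.trans (by decide) HeRow.gn_he.ab_eq.symm
  · rw [le_antisymm (hN (Sylow.ofCard _ h1)) Subgroup.le_normalizer, HeRow.f0_rho]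
    exact Eq.trans (by decide +kernel) (HeRow.gn_he.fN_eq HeRow.rho_yy).symm

end Cfsg.Agent.MK.S4
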