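import Cfsg.Agent.MK.S4.Gen
import Cfsg.Agent.MK.S.Defs
import Cfsg.Agent.Schreier.Ru
import Cfsg.Agent.QTNorm.SporRu
import Cfsg.Agent.TAB.Ru.Main
import Cfsg.Agent.S2077

/-!
# MK, the row `Ru` (helper88)
-/

set_option autoImplicit false

namespace Cfsg.Agent.MK.S4

open Cfsg Subgroup Cfsg.Agent.MK.T Cfsg.Agent.MK.S Cfsg.Agent.Schreier Cfsg.Agent.SporadicB

theorem gn_ru : Gn RuSyl.T fun i : Fin 3 => RuSyl.L i := by
  have := TAB.Ru.finH
  have := two_prime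
  refine ⟨fun i => RuSyl.L_mem_T i, ?_, fun i => RuSyl.L_sq i i.2, IsPGroup.of_card RuSyl.card_T,
    S4.le_ab (n := 11) RuSyl.card_T RuSyl.comm_le_one (Nat.le_of_dvd (by norm_num) (RuSyl.cert.card_dvd 11 3 le_rfl))⟩
  rw [RuSyl.T_eq]
  refine closure_mono fun x hx => ?_
  simp only [Set.mem_ofPred_eq, List.mem_cons, List.not_mem_nil, or_false] at hx
  rcases hx with rfl | rfl | rfl
  · exact ⟨0, (RuSyl.g_eq_L 0 (by decide)).symm⟩
  · exact ⟨1, (RuSyl.g_eq_L 1 (by decide)).symm⟩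
  · exact ⟨2, (RuSyl.g_eq_L 2 (by decide)).symm⟩

theorem a2_ru : a2 Spor.Ru = 8 := by
  have := TAB.Ru.finH
  have := TAB.Ru.finite
  rw [a2_congr RuLat.Main.equiv, S5.a2_of_sub (MonoidHom.id _) Function.injective_id RuSyl.T
    (fun x _ => ⟨x, rfl⟩) RuSyl.card_T (k := 8906625) (by decide) (by rw [RuOrder.card_H]; norm_num), gn_ru.ab_eq]
  rfl

/-- **the row of `Ru`** -/
theorem ru : SmS Spor.Ru := fun _ => by
  have := TAB.Ru.finite
  have : IsSimpleGroup RuOrder.H := RuSimple.isSimpleGroup_H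
  have : IsSimpleGroup Spor.Ru := RuLat.Main.equiv.isSimpleGroup
  refine sm_of_one (S5.center_eq_bot ?_) S2077.result ((m0_iff (QTNorm.RuRow.selfN_ru ⟨MulEquiv.refl _⟩)).2 ?_)
  · by_contra h
    push Not at h
    exact Schreier.Ru.not_comm ⟨⟨fun a b => RuLat.Main.equiv.symm.injective (by rw [map_mul, map_mul, h])⟩⟩
  · rw [a2_ru, k0_of_degList TAB.Ru.deg]
    decide

end Cfsg.Agent.MK.S4
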