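import Cfsg.Agent.MK.S4.Gen
import Cfsg.Agent.MK.S.Defs
import Cfsg.Agent.MK.T.D
import Cfsg.Agent.GAL.Spor.Suz
import Cfsg.Agent.TAB.Suz.Main
import Cfsg.Agent.S2074
import Cfsg.Agent.S1694

/-!
# MK, the row `Suz` (helper88)
-/

set_option autoImplicit false
set_option maxRecDepth 100000

namespace Cfsg.Agent.MK.S4

open Cfsg Subgroup Cfsg.Agent.MK.T Cfsg.Agent.MK.S

namespace SuzRow

open Cfsg.Spor (Suz)
open Cfsg.Agent.Schreier.SuzT Cfsg.Agent.Schreier.Suz Cfsg.Agent.H895.Pron.SuzS Cfsg.Agent.H895.Pron.SuzB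
  Cfsg.Agent.GAL.Spor.Sz Cfsg.Agent.KFacts.SuzRho Cfsg.Agent.TAB Cfsg.Agent.TAB.Use Cfsg.Agent.Characters
open Cfsg.Agent.SporadicRecognition.SuzOrder (el finiteSuz card_Suz)
open Cfsg.Agent.SuzThree.Basic (el_append)
open Cfsg.Agent.SuzThree.CentA (h1 h2)

theorem step {G : Type} [Group G] [Finite G] {N M : Subgroup G} {a b c : G}
    (h : ∀ x ∈ closure {a, b, c} ⊔ N, ∀ t ∈ M, x * t * x⁻¹ * t⁻¹ ∈ N) (hM : closure {a, b, c} ⊔ N ≤ M)
    (ha : a * a ∈ N) (hb : b * b ∈ N) (hc : c * c ∈ N) :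
    Nat.card (closure {a, b, c} ⊔ N : Subgroup G) ≤ 8 * Nat.card N := by
  have key : ∀ (W : Subgroup G) (x : G), N ≤ W → W ≤ M → x ∈ closure {a, b, c} → x * x ∈ N →
      Nat.card (zpowers x ⊔ W : Subgroup G) ≤ 2 * Nat.card W := fun W x h1 h2 h3 h4 =>
    Pc.card_ext (h1 h4) (fun y hy => by
      have h5 := mul_mem (h1 (h x (mem_sup_left h3) y (h2 hy))) hy
      rwa [inv_mul_cancel_right] at h5) fun K h5 h6 => sup_le (zpowers_le.2 h6) h5
  have ma : a ∈ closure {a, b, c} := subset_closure (by simp)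
  have mb : b ∈ closure {a, b, c} := subset_closure (by simp)
  have mc : c ∈ closure {a, b, c} := subset_closure (by simp)
  have l0 : N ≤ M := le_sup_right.trans hM
  have l1 : zpowers c ⊔ N ≤ M := sup_le (zpowers_le.2 (hM (mem_sup_left mc))) l0
  have l2 : zpowers b ⊔ (zpowers c ⊔ N) ≤ M := sup_le (zpowers_le.2 (hM (mem_sup_left mb))) l1
  have k1 := key N c le_rfl l0 mc hc
  have k2 := key _ b le_sup_right l1 mb hb
  have k3 := key _ a (le_sup_right.trans le_sup_right) l2 ma ha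
  have k4 : closure {a, b, c} ⊔ N ≤ zpowers a ⊔ (zpowers b ⊔ (zpowers c ⊔ N)) := by
    refine sup_le ((closure_le _).2 ?_) (le_sup_right.trans (le_sup_right.trans le_sup_right))
    rintro x (rfl | rfl | rfl)
    · exact mem_sup_left (mem_zpowers _)
    · exact mem_sup_right (mem_sup_left (mem_zpowers _))
    · exact mem_sup_right (mem_sup_right (mem_sup_left (mem_zpowers _)))
  have k5 := card_le_of_le k4
  omega

theorem sq_comm {G : Type} [Group G] {N : Subgroup G} {a b : G} (ha : a ^ 2 = 1)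
    (h : (a * b * a⁻¹ * b⁻¹) * a * (a * b * a⁻¹ * b⁻¹)⁻¹ * a⁻¹ ∈ N) :
    (a * b * a⁻¹ * b⁻¹) * (a * b * a⁻¹ * b⁻¹) ∈ N := by
  have h1 : a⁻¹ = a := inv_eq_of_mul_eq_one_right (by rw [← pow_two, ha])
  have h2 : (a * b * a⁻¹ * b⁻¹) * a * (a * b * a⁻¹ * b⁻¹)⁻¹ * a⁻¹ =
      (a * b * a⁻¹ * b⁻¹) * (a * b * a * b⁻¹ * (a⁻¹ * a⁻¹)) := by group
  rw [h2, ← mul_inv_rev, ← pow_two, ha, inv_one, mul_one] at h
  rwa [h1] at h ⊢

theorem U4_le : U4 ≤ T := T_eq ▸ le_sup_right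

theorem card_U4 : Nat.card U4 ≤ 2 ^ 9 := by
  have := finiteSuz
  have h1 : Nat.card U10 ≤ 8 := by
    rw [U10_eq]
    refine (Nat.card_le_card_of_surjective
      (fun i : Fin 8 => (⟨_, mem_A2.2 ⟨lA2.getD i 0, by revert i; decide, rfl⟩⟩ : A2)) fun ⟨g, hg⟩ => ?_).trans (by simp)
    obtain ⟨c, hc, rfl⟩ := mem_A2.1 hg
    obtain ⟨i, hi⟩ := (by decide : ∀ c ∈ lA2, ∃ i : Fin 8, lA2.getD i 0 = c) c hc
    exact ⟨i, Subtype.ext (by simp only [hi])⟩
  have h2 := step (a := x7) (b := x8) (c := x9) st7.2 (le4.trans U4_le) (sq_comm o_s1 (st7.2 _ mem7_7 _ s1_mem))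
    (sq_comm o_s3 (st7.2 _ mem7_8 _ s3_mem)) (sq_comm o_x4 (st7.2 _ mem7_9 _ x4_mem))
  have h3 := step (a := x4) (b := x5) (c := x6) st4.2 U4_le (sq_comm o_s1 (st4.2 _ mem4_4 _ s1_mem))
    (sq_comm o_s2 (st4.2 _ mem4_5 _ s2_mem)) (sq_comm o_s2 (st4.2 _ mem4_6 _ s2_mem))
  change Nat.card U7 ≤ _ at h2
  change Nat.card U4 ≤ _ at h3
  omega

/-- the words of the generators -/
def sw4 : Fin 4 → List Suz.Gen
  | 0 => [.g]
  | 1 => [.d, .b, .c, .f, .b, .a, .b, .f, .c, .b, .d]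
  | 2 => [.e]
  | 3 => [.b, .c, .d, .f, .b, .c, .d, .e, .d, .c, .b, .f, .d, .c, .b]

/-- the generators -/
noncomputable def yy (i : Fin 4) : Suz := el (sw4 i)

theorem gn : Gn T yy := by
  have := finiteSuz
  refine ⟨fun i => ?_, ?_, fun i => ?_, twoT, S4.le_ab (n := 9) card_T (commutator_le.2 st0.2) card_U4⟩
  · fin_cases i
    exacts [s1_mem, s2_mem, s3_mem, s4_mem]
  · rw [T_def]
    exact closure_mono (forall_S (P := fun x => x ∈ Set.range yy) ⟨0, rfl⟩ ⟨1, rfl⟩ ⟨2, rfl⟩ ⟨3, rfl⟩)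
  · rw [← pow_two]
    fin_cases i
    exacts [o_s1, o_s2, o_s3, o_s4]

theorem yy_word : ∀ v : List (Fin 4), (v.map yy).prod = el (v.flatMap sw4)
  | [] => rfl
  | i :: v => by
    rw [List.map_cons, List.prod_cons, List.flatMap_cons, el_append, yy_word v]
    rfl

/-- the action of the element of order three -/
def iw : Fin 4 → List (Fin 4)
  | 0 => [0]
  | 1 => [1]
  | 2 => [2, 3]
  | 3 => [2]

theorem w_yy (i : Fin 4) : ∃ c ∈ ⁅T, T⁆, MulAut.conj w (yy i) = ((iw i).map yy).prod * c := by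
  have h11 : x11 ∈ ⁅T, T⁆ := commutator_mem_commutator x10_mem s2_mem
  have h12 : x12 ∈ ⁅T, T⁆ := comm_eq e_x11_s1 ▸ commutator_mem_commutator x11_mem s1_mem
  rw [MulAut.conj_apply]
  fin_cases i
  · exact ⟨1, one_mem _, (mul_inv_eq_of_eq_mul w_s1).trans (by simp; rfl)⟩
  · exact ⟨1, one_mem _, (mul_inv_eq_of_eq_mul w_s2).trans (by simp; rfl)⟩
  · refine ⟨x6 * x11 * x12, mul_mem (mul_mem (commutator_mem_commutator s2_mem s4_mem) h11) h12,
      (mul_inv_eq_of_eq_mul w_s3).trans ?_⟩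
    change _ = s3 * (s4 * 1) * _
    group
  · refine ⟨x5 * x11 * x12, mul_mem (mul_mem (commutator_mem_commutator s2_mem s3_mem) h11) h12,
      (mul_inv_eq_of_eq_mul w_s4).trans ?_⟩
    change _ = s3 * 1 * _
    group

theorem k0_T : k0 T = 16 := by
  have := finiteSuz
  rw [k0_two twoT, gn.ab_eq]
  rfl

theorem k0_N : k0 (normalizer (T : Set Suz)) = 16 := by
  have := finiteSuz
  have h1 : Nat.card (normalizer (T : Set Suz)) = 24576 :=
    le_antisymm ((card_le_of_le fun _ => N_le_B).trans card_B_le)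
      (card_Tw.trans (card_le_of_le (sup_le le_normalizer (zpowers_le.2 w_normalizer))))
  have h2 : (inclusion (le_normalizer (H := T))).range = T.subgroupOf _ := inclusion_range _
  have h3 := k0_index_prime (inclusion (le_normalizer (H := T))) (inclusion_injective _) (h2 ▸ normal_in_normalizer)
    Nat.prime_three (by decide) (by
      have h4 := card_mul_index (T.subgroupOf (normalizer (T : Set Suz)))
      rw [Nat.card_congr (subgroupOfEquivOfLe le_normalizer).toEquiv, card_T, h1] at h4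
      rw [h2]
      omega) (a := ⟨w, w_normalizer⟩) (fun h => w_not (T_le (mem_subgroupOf.1 (h2 ▸ h))))
    (α := res T (MulAut.conj w) (gn.stab w_yy)) fun x => rfl
  rw [← fN_eq_f0 (res_coe _ _ _), gn.fN_eq w_yy, k0_T, show (Finset.univ.filter fun s : Fin 4 → Bool =>
    ∀ i, par s (iw i) = s i).card = 4 by decide +kernel] at h3
  omega

theorem m0 : M0 Suz := by
  have := finiteSuz
  refine M0.of_one T₀ (Eq.trans ?_ k0_N.symm)
  rw [k0_of_degList TAB.Suz.deg]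
  decide

theorem cycN : CycN Suz := ⟨T₀, w, w_normalizer, fun _ hg => exists_of_mem_B (N_le_B hg)⟩

/-- the word of the correcting element -/
def gw : List Suz.Gen := h2 ++ ([.d] ++ (h2 ++ (h1 ++ ([.d] ++ (h1 ++ [.d])))))

theorem gz_eq : gz = el gw := by
  simp only [gw, el_append]
  rfl

theorem eqw {u v : List Suz.Gen} (h : Lib.PermNet.checkEq 11 (SporadicRecognition.SuzPhi.wd u)
    (SporadicRecognition.SuzPhi.wd v) = true) : el u = el v :=
  SuzThree.Basic.eq_of_reps (SuzThree.Basic.Rep.el _) (SuzThree.Basic.Rep.el _) h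

/-- the action of the outer automorphism -/
def ip : Fin 4 → List (Fin 4)
  | 0 => [1, 3, 2, 3, 0, 3, 2, 3, 1]
  | 1 => [3, 0, 3, 1, 3, 0, 3]
  | 2 => [0, 1, 2, 1, 0]
  | 3 => [1, 3, 1, 2]

theorem ph_yy (i : Fin 4) : ∃ c ∈ ⁅T, T⁆, ph (yy i) = ((ip i).map yy).prod * c := by
  refine ⟨1, one_mem _, ?_⟩
  rw [mul_one, yy_word, ph, MulAut.mul_apply, MulAut.conj_apply, yy, rho_el, gz_eq, mul_inv_eq_iff_eq_mul, ← el_append,
    ← el_append]
  refine eqw ?_
  revert i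
  decide +kernel

theorem ph_two : ∃ k : ℕ, ph ^ 2 ^ k = 1 := by
  have h1 : gz * rho gz = (([0, 2, 3, 2, 1, 0, 1, 2, 3, 2] : List (Fin 4)).map yy).prod := by
    rw [yy_word, gz_eq, rho_el, ← el_append]
    exact eqw (by decide +kernel)
  have h2 : ph ^ 2 = MulAut.conj (gz * rho gz) := by
    rw [pow_two, ph, map_mul, conj_map, mul_assoc, mul_assoc, inv_eq_of_mul_eq_one_right rho_sq]
  obtain ⟨k, hk⟩ := twoT ⟨_, h1 ▸ gn.word_mem _⟩
  exact ⟨k + 1, by rw [pow_succ', pow_mul, h2, ← map_pow, show (gz * rho gz) ^ 2 ^ k = 1 from congrArg Subtype.val hk,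
    map_one]⟩

theorem ph_out : ph ∉ (MulAut.conj : Suz →* MulAut Suz).range := fun ⟨k, hk⟩ =>
  H997.OutSuz.rho_outer (gz⁻¹ * k) (by rw [map_mul, hk, ph, map_inv, inv_mul_cancel_left])

theorem pairs : ∀ j < 43, ∃ r ∈ (Sm2.mkRows Sz.rowA Sz.rowB).rel, if j < 31 then r.1 = [(j, 1)] else
    ∃ k < 43, (r.1 = [(j, 1), (k, 1)] ∧ k % 2 = 0 ∧ 31 ≤ k) ∨ (r.1 = [(k, 1), (j, 1)] ∧ j % 2 = 0) := by decide +kernel

/-- the representatives -/
def reps : List ℕ := List.range 31 ++ [31, 33, 35, 37, 39, 41]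

theorem reps_ok : repB Sz.dat (Sm2.mkRows Sz.rowA Sz.rowB) reps = true := by decide +kernel

theorem f0_ph : f0 ph = 8 := by
  have := finiteSuz
  obtain ⟨χ, hE, hR⟩ := Sz.tab
  have hn : (Sm2.mkRows Sz.rowA Sz.rowB).n = 43 := by decide +kernel
  have hr : ∀ k < 43, k % 2 = 0 → 31 ≤ k → k ∉ reps := by decide
  rw [f0_enum hE (q := fun j => decide (j < 31)) fun j hj _ => ?_]
  · decide +kernel
  obtain ⟨r, hm, h⟩ := pairs j (hn ▸ hj)
  rw [decide_eq_true_eq]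
  refine ⟨fun hf => by_contra fun h31 => ?_, fun h31 x => ?_⟩
  · rw [if_neg h31] at h
    have hc : ∀ a b, Sz.td.ty a = Sz.td.ty b → χ j a = χ j b := fun a b e => by
      obtain ⟨σ, rfl, -⟩ := Sz.hom a b e
      obtain ⟨s, rfl | rfl⟩ := out_cases S2074.result ph_out σ
      · exact (Core.isIrr_isClassFunction (hE.irr j hj) _ _).symm
      · exact ((Core.isIrr_isClassFunction (hE.irr j hj) _ _).trans (hf a)).symm
    obtain ⟨k, hk, ⟨h1, h2, h3⟩ | ⟨-, h2⟩⟩ := h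
    · refine not_const hE hR reps_ok (hn ▸ hk) (hr k hk h2 h3) fun a b e => ?_
      have h4 := Sz.pair_sum hR hm (Or.inl h1) a
      rw [e, ← Sz.pair_sum hR hm (Or.inl h1) b, hc a b e] at h4
      exact add_left_cancel h4
    · exact not_const hE hR reps_ok hj (hr j (hn ▸ hj) h2 (not_lt.1 h31)) hc
  · rw [if_pos h31] at h
    rw [hR.row hm h, hR.row hm h, Sz.td_ty, Sz.td_ty, H714.S8.SuzFam.fam_aut]

end SuzRow

open Cfsg.Agent.Schreier.Suz Cfsg.Agent.GAL.Spor in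
/-- **the row of `Suz`** -/
theorem suz : SmS Spor.Suz := fun ih => by
  have := SporadicRecognition.SuzOrder.finiteSuz
  have := two_prime
  have : IsSimpleGroup Spor.Suz := S1694.result.1
  have hZ : center Spor.Suz = ⊥ := S5.center_eq_bot ⟨_, _, Schreier.SuzT.ne_x4_x10⟩
  have hi : (MulAut.conj : Spor.Suz →* MulAut Spor.Suz).range.index = 2 := S2074.result
  have hs := SuzRow.gn.stab SuzRow.ph_yy
  refine sm_of_two' hZ hi T₀ SuzRow.ph_out hs SuzRow.m0 ?_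
  rw [fN_norm_eq hZ hi ih (selfN_aut_of_phi hZ hi fun Q => Sz.phi.sylow Q) T₀ (fun h => ?_) SuzRow.ph_out hs SuzRow.ph_two,
    SuzRow.f0_ph]
  · exact Eq.trans (by decide +kernel) (SuzRow.gn.fN_eq SuzRow.ph_yy).symm
  · have h1 := card_le_of_le (h.ge.trans fun _ => H895.Pron.SuzB.N_le_B)
    have h2 := H895.Pron.SuzB.card_B_le
    rw [card_top, SporadicRecognition.SuzOrder.card_Suz] at h1
    omega

end Cfsg.Agent.MK.S4
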