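import Cfsg.Agent.MK.S4.ZA
import Cfsg.Agent.H95.StemCover
import Cfsg.Agent.H51.Tools
import Cfsg.Agent.S0148
import Cfsg.Agent.S2048

/-!
# MK, the row `3.Suz` (helper88)

* `Rp` : the matrices; `Md` : the sixfold cover; `exists_sc` : the scene on a triple cover; `suz3` : the row.
-/

set_option autoImplicit false
set_option maxRecDepth 100000

namespace Cfsg.Agent.MK.S4

open Cfsg Subgroup Cfsg.Agent.MK.T Cfsg.Agent.MK.S

namespace Z

open Cfsg.Agent.TAB.Eng Cfsg.Agent.TAB.Sz Cfsg.Agent.Characters Cfsg.Agent.Characters.Core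
open Cfsg.Agent.Characters.Brauer Cfsg.Agent.H447.CTab
open Cfsg.Agent.TAB.F22 (relB trB cm rel_of_chk trace_of_chk)
open Cfsg.Agent.KFacts.SuzRho (rho rhoHom rhoHom_of)
open Cfsg.Agent.H123.Cls.SuzDat (gn W W_chk D D_sg D_len comm_tab)
open Cfsg.Agent.SporadicRecognition.SuzOrder (el finiteSuz card_Suz)
open Cfsg.Spor (Suz)
open scoped commutatorElement

/-- the matrices -/
structure Rp (G : Type) [Group G] where
  u : ℕ → G
  T : G → ℂ
  ch : IsCharacter G T
  neg : ∀ y, T (u 8 * y) = -T y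
  p12 : ∀ x, u x ^ 12 = 1
  rel : ∀ w, relB 24 ms sc fs 8 w = true → (w.map u).prod = 1
  tr : ∀ w (t : ℤ), trB 24 ms sc fs 8 w t = true → T (w.map u).prod = t

theorem cm12 {x : ℕ} (h : x < 10) : cm 24 ms sc x ^ 12 = 1 := by
  have h1 := rel_of_chk ok_ms (p12_chk x h)
  rwa [List.map_replicate, List.prod_replicate] at h1

/-- the letters as units -/
noncomputable def un (x : ℕ) : (Matrix (Fin 24) (Fin 24) ℂ)ˣ :=
  if h : x < 10 then Units.ofPowEqOne _ 12 (cm12 h) (by decide) else 1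

theorem coe_un {x : ℕ} (h : x < 10) : (un x : Matrix (Fin 24) (Fin 24) ℂ) = cm 24 ms sc x := by
  rw [un, dif_pos h, Units.val_ofPowEqOne]

theorem coe_word : ∀ w : List ℕ, (∀ x ∈ w, x < 10) →
    (((w.map un).prod : (Matrix (Fin 24) (Fin 24) ℂ)ˣ) : Matrix (Fin 24) (Fin 24) ℂ) = (w.map (cm 24 ms sc)).prod
  | [], _ => rfl
  | x :: w, h => by
    rw [List.map_cons, List.prod_cons, Units.val_mul, coe_un (h x List.mem_cons_self),
      coe_word w fun y hy => h y (List.mem_cons_of_mem _ hy), List.map_cons, List.prod_cons]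

theorem cm8 : cm 24 ms sc 8 = -1 := by
  ext i j
  have h := neg_chk i j
  change ((1 : ℕ) : ℂ)⁻¹ * ((TAB.Use.coef ((m8.map TAB.F22.sgn).getD i []) j : ℤ) : ℂ) = _
  rw [h, Matrix.neg_apply, Matrix.one_apply]
  split_ifs <;> simp

/-- the matrices exist -/
noncomputable def rp : Rp (Matrix (Fin 24) (Fin 24) ℂ)ˣ where
  u := un
  T y := (y : Matrix (Fin 24) (Fin 24) ℂ).trace
  ch := S0148.isCharacter_of_matrix (Units.coeHom (Matrix (Fin 24) (Fin 24) ℂ))
  neg y := by rw [Units.val_mul, coe_un (by decide), cm8, neg_one_mul, Matrix.trace_neg]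
  p12 x := by
    by_cases h : x < 10
    · exact Units.ext (by rw [Units.val_pow_eq_pow_val, coe_un h, cm12 h, Units.val_one])
    · rw [un, dif_neg h, one_pow]
  rel w h := by
    have h1 := h
    rw [relB, Bool.and_eq_true, Bool.and_eq_true] at h1
    exact Units.ext ((coe_word w fun x hx => Nat.blt_eq.mp (allL_spec h1.1.1 x hx)).trans (rel_of_chk ok_ms h))
  tr w t h := by
    have h1 := h
    rw [trB, Bool.and_eq_true, Bool.and_eq_true] at h1
    rw [coe_word w fun x hx => Nat.blt_eq.mp (allL_spec h1.1.1 x hx), trace_of_chk ok_ms h]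

/-- the sixfold cover -/
structure Md (Y : Type) [Group Y] where
  q : Y →* Suz
  j : Y
  δ : Y →* Y
  T : Y → ℂ
  lw : List ℕ → Y
  surj : Function.Surjective q
  cen : ∀ y, j * y = y * j
  ord : orderOf j = 6
  ker : q.ker = zpowers j
  com : j ∈ commutator Y
  qδ : ∀ y, q (δ y) = rho (q y)
  δj : δ j = j⁻¹
  ch : IsCharacter Y T
  Tδ : ∀ y, T (δ y) = T y
  neg : ∀ y, T (j ^ 3 * y) = -T y
  q_lw : ∀ w, q (lw w) = el (w.map gn)
  val : ∀ w k v, (∀ x ∈ w, x < 7) → tr3 (pw w k) v = true → Val (j ^ 2) T (lw w ^ k) v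
  l0 : q (lw [0, 0, 0, 0]) = 1 → lw [0, 0, 0, 0] = 1

theorem prod_pw {M : Type} [Monoid M] (f : ℕ → M) (w : List ℕ) (k : ℕ) : ((pw w k).map f).prod = (w.map f).prod ^ k := by
  rw [pw, List.map_flatten, List.prod_flatten, List.map_replicate, List.map_replicate, List.prod_replicate]

namespace Rp

variable {G : Type} [Group G] (P : Rp G)

/-- the product of a word -/
def ev (w : List ℕ) : G := (w.map P.u).prod

theorem ev_append (v w : List ℕ) : P.ev (v ++ w) = P.ev v * P.ev w := by rw [ev, List.map_append, List.prod_append, ev, ev]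

theorem ev_iw : ∀ w : List ℕ, P.ev (iw w) = (P.ev w)⁻¹
  | [] => inv_one.symm
  | x :: w => by
    have h1 : iw (x :: w) = iw w ++ List.replicate 11 x := by
      rw [iw, List.reverse_cons, List.flatMap_append, List.flatMap_singleton, iw]
    rw [h1, ev_append, ev_iw w, ev, ev, ev, List.map_replicate, List.prod_replicate, List.map_cons, List.prod_cons,
      mul_inv_rev, inv_eq_of_mul_eq_one_right ((pow_succ' _ 11).symm.trans (P.p12 x))]

theorem eq_of {v w : List ℕ} (h : eqB v w = true) : P.ev v = P.ev w := by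
  have h1 : P.ev (v ++ iw w) = 1 := P.rel _ h
  rwa [ev_append, ev_iw, mul_inv_eq_one] at h1

theorem ev2 (a b : ℕ) : P.ev [a, b] = P.u a * P.u b := by simp [ev]

theorem ev7 (k : ℕ) : P.ev (List.replicate k 7) = P.u 7 ^ k := by rw [ev, List.map_replicate, List.prod_replicate]

theorem scal {w : List ℕ} (h : scB w = true) : P.ev w ∈ zpowers (P.u 7) := by
  rw [scB, Bool.or_eq_true, Bool.or_eq_true] at h
  rcases h with h | h | h <;> rw [P.eq_of h]
  exacts [one_mem _, P.ev7 3 ▸ pow_mem (mem_zpowers _) 3, P.ev7 1 ▸ pow_mem (mem_zpowers _) 1]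

theorem ord : orderOf (P.u 7) = 6 := by
  obtain ⟨h1, -, -, -, h2, h3, h4, -⟩ := j_chk
  have h5 : ∀ (k : ℕ) (t : ℤ), trB 24 ms sc fs 8 (List.replicate k 7) t = true → t ≠ 24 → P.u 7 ^ k ≠ 1 :=
    fun k t h h6 h7 => h6 (Int.cast_injective (α := ℂ) (by
      rw [← P.tr _ _ h, ← P.tr _ _ h2]
      exact congrArg P.T ((P.ev7 k).trans h7)))
  refine orderOf_eq_of_pow_and_pow_div_prime (by decide) ((P.ev7 6).symm.trans (P.eq_of h1)) fun p hp hd => ?_
  have h6 := Nat.le_of_dvd (by decide) hd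
  interval_cases p <;> first | exact absurd hp (by decide) | exact absurd hd (by decide) | skip
  exacts [h5 3 _ h4 (by decide), h5 2 _ h3 (by decide)]

/-- the centraliser of the scalar -/
def C : Subgroup G := centralizer {P.u 7}

/-- the scalar -/
def J : P.C := ⟨P.u 7, mem_centralizer_singleton_iff.2 rfl⟩

theorem J_cen (y : P.C) : P.J * y = y * P.J := Subtype.ext (mem_centralizer_singleton_iff.1 y.2).symm

instance nK : (zpowers P.J).Normal := ⟨fun n hn g => by
  rwa [mem_center_iff.1 (zpowers_le_of_mem (mem_center_iff.2 fun y => (P.J_cen y).symm) hn) g, mul_inv_cancel_right]⟩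

/-- the projection -/
def pr : P.C →* P.C ⧸ zpowers P.J := QuotientGroup.mk' _

/-- the generators -/
def v (x : Suz.Gen) : P.C :=
  ⟨P.u (ix x), mem_centralizer_singleton_iff.2 (by rw [← ev2, ← ev2, P.eq_of (cen_chk x)])⟩

theorem coe_v : ∀ w : List ℕ, (∀ x ∈ w, x < 7) → (((w.map fun x => P.v (gn x)).prod : P.C) : G) = P.ev w
  | [], _ => rfl
  | x :: w, h => by
    have h1 : ∀ x < 7, ix (gn x) = x := by decide
    rw [List.map_cons, List.prod_cons, coe_mul, coe_v w fun y hy => h y (List.mem_cons_of_mem _ hy)]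
    change P.u (ix (gn x)) * _ = _
    rw [h1 x (h x List.mem_cons_self)]
    rfl

theorem word_one {w : List ℕ} (hw : ∀ x ∈ w, x < 7) (h : scB w = true) :
    (w.map fun x => P.pr (P.v (gn x))).prod = 1 := by
  obtain ⟨k, hk⟩ := P.scal h
  rw [← P.coe_v w hw] at hk
  have h1 := (QuotientGroup.eq_one_iff (N := zpowers P.J) _).2 ⟨k, Subtype.ext hk⟩
  rwa [← QuotientGroup.mk'_apply, map_list_prod, List.map_map] at h1

theorem rels : ∀ r ∈ Spor.coxRelators Suz.edges ∪ {r | r ∈ Suz.extra},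
    FreeGroup.lift (fun x => P.pr (P.v x)) r = 1 := by
  have cox : ∀ x y, (P.pr (P.v x) * P.pr (P.v y)) ^ Spor.coxLabel Suz.edges x y = 1 := fun x y => by
    have h := P.word_one (by cases x <;> cases y <;> decide) (cox_chk x y)
    have h1 : ∀ x, gn (ix x) = x := fun x => by cases x <;> rfl
    rwa [prod_pw, List.map_cons, List.map_cons, List.map_nil, List.prod_cons, List.prod_cons, List.prod_nil, mul_one,
      h1, h1] at h
  rintro r (⟨x, -, y, -, rfl⟩ | hr)
  · rw [map_pow, map_mul, FreeGroup.lift_apply_of, FreeGroup.lift_apply_of, cox]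
  · have key : ∀ X : P.C ⧸ zpowers P.J, X * P.pr (P.v .a) = 1 → P.pr (P.v .a) * X⁻¹ = 1 := fun X h => by
      rw [inv_eq_of_mul_eq_one_right h, ← pow_one (_ * _)]
      exact cox .a .a
    obtain ⟨x1, x2, x3, x4, x5⟩ := ex_chk
    have hr' : r ∈ Suz.extra := hr
    simp only [Suz.extra, List.mem_cons, List.not_mem_nil, or_false] at hr'
    rcases hr' with rfl | rfl | rfl | rfl | rfl <;> simp only [map_mul, map_inv, map_pow, FreeGroup.lift_apply_of]
    · simpa only [List.map_append, List.prod_append, prod_pw, List.map_cons, List.map_nil, List.prod_cons,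
        List.prod_nil, mul_one, gn] using key _ (by
          simpa only [List.map_append, List.prod_append, prod_pw, List.map_cons, List.map_nil, List.prod_cons,
            List.prod_nil, mul_one, gn] using P.word_one (by decide) x1)
    · exact key _ (by
        simpa only [List.map_append, List.prod_append, prod_pw, List.map_cons, List.map_nil, List.prod_cons,
          List.prod_nil, mul_one, gn] using P.word_one (by decide) x2)
    · simpa only [prod_pw, List.map_cons, List.map_nil, List.prod_cons, List.prod_nil, mul_one, mul_assoc, gn] using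
        P.word_one (by decide) x3
    · simpa only [prod_pw, List.map_cons, List.map_nil, List.prod_cons, List.prod_nil, mul_one, mul_assoc, gn] using
        P.word_one (by decide) x4
    · simpa only [prod_pw, List.map_append, List.prod_append, List.map_cons, List.map_nil, List.prod_cons,
        List.prod_nil, mul_one, mul_assoc, gn] using P.word_one (by decide) x5

/-- the projective representation -/
def σ : Suz →* P.C ⧸ zpowers P.J := PresentedGroup.toGroup P.rels

theorem σ_of (x : Suz.Gen) : P.σ (PresentedGroup.of x) = P.pr (P.v x) := PresentedGroup.toGroup.of P.rels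

theorem tau_J : P.u 9 * P.u 7 * (P.u 9)⁻¹ = (P.u 7)⁻¹ := by
  have h := P.eq_of j_chk.2.2.1
  simp only [ev, List.map_cons, List.map_nil, List.prod_cons, List.prod_nil, mul_one] at h
  rw [eq_inv_iff_mul_eq_one, mul_assoc, ← inv_inv (P.u 7 : G), ← mul_inv_rev, mul_inv_eq_one, inv_inv,
    eq_inv_mul_iff_mul_eq, h]

/-- the conjugation by the semilinear map -/
def ct : P.C →* P.C := ((MulAut.conj (P.u 9)).toMonoidHom.comp P.C.subtype).codRestrict P.C fun y =>
  mem_centralizer_singleton_iff.2 (by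
    have h : Commute (MulAut.conj (P.u 9) y) (MulAut.conj (P.u 9) (P.u 7)) :=
      Commute.map (mem_centralizer_singleton_iff.1 y.2) _
    rw [MulAut.conj_apply _ (P.u 7), tau_J] at h
    exact Commute.inv_right_iff.1 h)

theorem ct_J : P.ct P.J = P.J⁻¹ := Subtype.ext P.tau_J

/-- the induced map -/
def cq : P.C ⧸ zpowers P.J →* P.C ⧸ zpowers P.J := QuotientGroup.map _ _ P.ct (zpowers_le_of_mem (by
  rw [mem_comap, ct_J]
  exact inv_mem (mem_zpowers _)))

theorem σ_rho (s : Suz) : P.σ (rhoHom s) = P.cq (P.σ s) := by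
  refine DFunLike.congr_fun (PresentedGroup.ext (φ := P.σ.comp rhoHom) (ψ := P.cq.comp P.σ) fun x => ?_) s
  rw [MonoidHom.comp_apply, MonoidHom.comp_apply, rhoHom_of, σ_of, σ_of]
  refine congrArg P.pr (Subtype.ext (eq_mul_inv_of_mul_eq ?_))
  exact (P.ev2 _ _).symm.trans ((P.eq_of (tau_chk x)).symm.trans (P.ev2 _ _))

/-- the cover -/
def Y : Subgroup (P.C × Suz) := (P.pr.comp (MonoidHom.fst _ _)).eqLocus (P.σ.comp (MonoidHom.snd _ _))

/-- the matrix -/
def π : P.Y →* G := P.C.subtype.comp ((MonoidHom.fst _ _).comp P.Y.subtype)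

/-- the image -/
def q : P.Y →* Suz := (MonoidHom.snd _ _).comp P.Y.subtype

/-- the scalar -/
def j : P.Y := ⟨(P.J, 1), ((QuotientGroup.eq_one_iff _).2 (mem_zpowers _)).trans (map_one P.σ).symm⟩

/-- the lift of a word -/
def lw (w : List ℕ) : P.Y :=
  (w.map fun x => (⟨(P.v (gn x), PresentedGroup.of (gn x)), (P.σ_of _).symm⟩ : P.Y)).prod

theorem ext {x y : P.Y} (h1 : P.π x = P.π y) (h2 : P.q x = P.q y) : x = y :=
  Subtype.ext (Prod.ext (Subtype.ext h1) h2)

theorem q_lw (w : List ℕ) : P.q (P.lw w) = el (w.map gn) := by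
  rw [lw, map_list_prod, List.map_map, el, List.map_map]
  rfl

theorem π_lw {w : List ℕ} (h : ∀ x ∈ w, x < 7) : P.π (P.lw w) = P.ev w := by
  rw [← P.coe_v w h, lw, map_list_prod, List.map_map, ← coe_subtype, map_list_prod, List.map_map]
  rfl

theorem ker_q : P.q.ker = zpowers P.j := by
  refine le_antisymm (fun y hy => ?_) (zpowers_le_of_mem rfl)
  have h1 : P.pr y.1.1 = P.σ (P.q y) := y.2
  rw [MonoidHom.mem_ker.1 hy, map_one] at h1
  obtain ⟨k, hk⟩ := (QuotientGroup.eq_one_iff _).1 h1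
  refine ⟨k, P.ext ?_ ?_⟩
  · rw [map_zpow]
    exact congrArg Subtype.val hk
  · rw [map_zpow, MonoidHom.mem_ker.1 hy]
    exact one_zpow k

theorem com_j {a b : List ℕ} {k : ℕ} (ha : ∀ x ∈ a, x < 7) (hb : ∀ x ∈ b, x < 7)
    (h : eqB (a ++ b) (List.replicate k 7 ++ (b ++ a)) = true)
    (h' : el (a.map gn ++ b.map gn) = el (b.map gn ++ a.map gn)) : P.j ^ k ∈ commutator P.Y := by
  have h1 := P.eq_of h
  rw [ev_append, ev_append, ev_append, ev7, ← P.π_lw ha, ← P.π_lw hb, ← mul_inv_eq_iff_eq_mul] at h1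
  rw [SuzThree.Basic.el_append, SuzThree.Basic.el_append, ← P.q_lw, ← P.q_lw] at h'
  rw [← P.ext (x := ⁅P.lw a, P.lw b⁆) (y := P.j ^ k) (by
    rw [map_commutatorElement P.π, commutatorElement_def, mul_assoc, ← mul_inv_rev, h1, map_pow]
    rfl) (by
    rw [map_commutatorElement P.q, commutatorElement_eq_one_iff_mul_comm.2 h', map_pow]
    exact (one_pow k).symm)]
  exact commutator_mem_commutator (mem_top _) (mem_top _)

/-- the lift of the outer automorphism -/
noncomputable def δ : P.Y →* P.Y := ((P.ct.prodMap rhoHom).comp P.Y.subtype).codRestrict P.Y fun y =>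
  (congrArg P.cq (y.2 : P.pr y.1.1 = P.σ y.1.2)).trans (P.σ_rho _).symm

theorem π_j (k : ℕ) : P.π (P.j ^ k) = P.ev (List.replicate k 7) := by
  rw [map_pow, ev7]
  rfl

/-- the cover with its data -/
noncomputable def md : Md P.Y where
  q := P.q
  j := P.j
  δ := P.δ
  T y := P.T (P.π y)
  lw := P.lw
  surj s := by
    obtain ⟨y, hy⟩ := QuotientGroup.mk'_surjective _ (P.σ s)
    exact ⟨⟨(y, s), hy⟩, rfl⟩
  cen y := Subtype.ext (Prod.ext (P.J_cen _) ((one_mul _).trans (mul_one _).symm))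
  ord := by
    rw [← P.ord, orderOf_eq_orderOf_iff]
    refine fun n => ⟨fun h => ?_, fun h => P.ext ?_ ?_⟩
    · rw [← ev7, ← π_j, h, map_one]
    · rw [π_j, ev7, h, map_one]
    · rw [map_pow, map_one]
      exact one_pow n
  ker := P.ker_q
  com := by
    have h1 := P.com_j (k := 3) (by decide) (by decide) com_chk.1 (SuzRow.eqw (by decide +kernel))
    have h2 := P.com_j (k := 4) (by decide) (by decide) com_chk.2 (SuzRow.eqw (by decide +kernel))
    have h3 := mul_mem (inv_mem h1) h2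
    rwa [pow_succ _ 3, inv_mul_cancel_left] at h3
  qδ _ := rfl
  δj := Subtype.ext (Prod.ext P.ct_J ((map_one rhoHom).trans inv_one.symm))
  ch := isCharacter_comp P.π P.ch
  Tδ y := isCharacter_isClassFunction P.ch _ _
  neg y := by rw [map_mul, π_j, ← P.neg, show P.ev (List.replicate 3 7) = P.u 8 from
    (P.eq_of j_chk.2.1).symm.trans (mul_one _)]
  q_lw := P.q_lw
  val w k v hw h := by
    rw [tr3, Bool.and_eq_true, Bool.and_eq_true] at h
    have h1 : P.π (P.lw w ^ k) = P.ev (pw w k) := by rw [map_pow, P.π_lw hw, ev, ev, prod_pw]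
    refine ⟨?_, ?_, ?_⟩ <;> beta_reduce
    · rw [h1]
      exact P.tr _ _ h.1
    · rw [map_mul, h1, π_j, ← ev_append]
      exact P.tr _ _ h.2.1
    · rw [map_mul, map_mul, h1, π_j, ← ev_append, ← ev_append]
      exact P.tr _ _ h.2.2
  l0 h := P.ext ((P.π_lw (by decide)).trans ((P.eq_of j_chk.2.2.2.2.2.2.2).trans (map_one P.π).symm))
    (h.trans (map_one P.q).symm)

end Rp

theorem ty_wd {t : ℕ} (ht : t < 37) : td.ty (el ((wd (sw t)).map gn)) = t := by
  have hi : sw t < 37 := sw_lt ht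
  rw [td_ty, ← sw_sw t, sw_sw (sw t)]
  generalize sw t = i at hi
  have h1 : i < W.length := hi
  have h2 : i < D.length := hi
  have h3 : (D[i]'h2).1 = (W[i]'h1).1 := by
    have h4 : D.map (fun x => x.1) = W.map (fun y => y.1) := rfl
    have h5 := List.getElem_of_eq h4 (i := i) (by rwa [List.length_map])
    rwa [List.getElem_map, List.getElem_map] at h5
  have h4 : (D[i]'h2).2.2 = H714.S8.SuzFam.SL.getD i [] := by
    rw [← H714.S8.SuzFam.SL_eq, List.getD_eq_getElem _ _ (by rwa [List.length_map]), List.getElem_map]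
  refine congrArg sw (H714.S8.SuzFam.fam_of_sg hi ?_)
  rw [wd, List.getD_eq_getElem _ _ (by rwa [List.length_map]), List.getElem_map, List.map_append, List.map_append,
    List.map_append, SuzThree.Basic.el_append, SuzThree.Basic.el_append, SuzThree.Basic.el_append, List.map_reverse,
    List.map_reverse, SuzThree.Basic.el_reverse, SuzThree.Basic.el_reverse, ← h4]
  exact H123.Cls.sig_of_chk (by norm_num) (h3 ▸ comm_tab (W_chk _ (List.getElem_mem h1))) (D_sg _ (List.getElem_mem h2))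
    (D_len _ (List.getElem_mem h2))

theorem gen_desc {X Y : Type} [Group X] [Group Y] [Finite Y] {θ : Y →* X} (hθ : Function.Surjective θ) {F : Y → ℂ}
    {H : X → ℂ} (hF : IsGeneralizedCharacter Y F) (h : ∀ y, H (θ y) = F y) : IsGeneralizedCharacter X H := by
  have := Finite.of_surjective θ hθ
  have := Fintype.ofFinite X
  have := Fintype.ofFinite Y
  have := finite_irr (G := Y)
  have := Fintype.ofFinite (IrrCharacter Y)
  refine isGeneralizedCharacter_of_int (fun x s => ?_) fun χ hχ => ?_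
  · obtain ⟨x, rfl⟩ := hθ x
    obtain ⟨s, rfl⟩ := hθ s
    rw [← map_inv, ← map_mul, ← map_mul, h, h, gen_classFunction hF]
  · rw [← H829.GowDesc.classInner_comp_surj θ hθ, show H ∘ θ = F from funext h]
    exact ⟨_, inner_sum_mu hF (H651.isGeneralizedCharacter_comp_hom θ
      (isGeneralizedCharacter_of_isCharacter (isIrr_isCharacter hχ)))⟩

/-- **the scene on a triple cover** -/
theorem exists_sc {Y : Type} [Group Y] (M : Md Y) {X : Type} [Group X] [Finite X] (φ : X →* Suz)
    (hφ : Function.Surjective φ) (hk : φ.ker = center X) (h3 : Nat.card (center X) = 3) (hp : commutator X = ⊤) :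
    ∃ S : Sc X, S.φ = φ := by
  have := finiteSuz
  have h6 : Nat.card M.q.ker = 6 := by rw [M.ker, Nat.card_zpowers, M.ord]
  have : Finite M.q.ker := Nat.finite_of_card_ne_zero (by omega)
  have : Finite Y := M.q.finite_iff_finite_ker_range.2 ⟨inferInstance, inferInstance⟩
  obtain ⟨θ, hθ, hq⟩ := H95.StemCover.exists_cover'
    (H51.Tools.perfect_of_simple S1694.result.1 (by rw [S1694.result.2]; norm_num)) (A := Multiplicative (ZMod 6))
    S2048.result M.q ⟨M.surj, M.ker ▸ zpowers_le_of_mem (mem_center_iff.2 fun y => (M.cen y).symm),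
      M.ker ▸ zpowers_le_of_mem M.com⟩ (by rw [h6]; simp) hp φ hφ hk.le
  have j6 : M.j ^ 6 = 1 := M.ord ▸ pow_orderOf_eq_one _
  have k1 : ∀ y, φ (θ y) = 1 → ∃ n : ℕ, M.j ^ n = y := fun y hy =>
    mem_powers_iff_mem_zpowers.2 (M.ker ▸ MonoidHom.mem_ker.2 ((hq y).symm.trans hy))
  have k2 : φ (θ M.j) = 1 := (hq _).trans (MonoidHom.mem_ker.1 (M.ker ▸ mem_zpowers _))
  have k3 : orderOf (θ M.j) = 3 := by
    rw [← h3, ← hk, ← Nat.card_zpowers]
    refine congrArg (fun K : Subgroup X => Nat.card K) (le_antisymm (zpowers_le_of_mem k2) fun x hx => ?_)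
    obtain ⟨y, rfl⟩ := hθ x
    obtain ⟨n, rfl⟩ := k1 y hx
    exact map_pow θ _ n ▸ pow_mem (mem_zpowers _) n
  have k4 : θ M.j ^ 3 = 1 := k3 ▸ pow_orderOf_eq_one _
  have k5 : ∀ y, θ y = 1 → ∃ n : ℕ, (M.j ^ 3) ^ n = y := fun y hy => by
    obtain ⟨n, rfl⟩ := k1 y (by rw [hy, map_one])
    rw [map_pow, ← orderOf_dvd_iff_pow_eq_one, k3] at hy
    obtain ⟨n, rfl⟩ := hy
    exact ⟨n, (pow_mul _ _ _).symm⟩
  have desc : ∀ {F : Y → ℂ}, (∀ y, F (M.j ^ 3 * y) = F y) → ∀ y, F (Function.surjInv hθ (θ y)) = F y := fun h y => by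
    obtain ⟨n, hn⟩ := k5 (Function.surjInv hθ (θ y) * y⁻¹) (by
      rw [map_mul, map_inv, Function.surjInv_eq hθ, mul_inv_cancel])
    rw [← eq_mul_inv_iff_mul_eq.1 hn]
    clear hn
    induction n with
    | zero => rw [pow_zero, one_mul]
    | succ n ih => rw [pow_succ', mul_assoc, h, ih]
  have dP := desc (F := fun y => M.T y * M.T y) fun y => by rw [M.neg, neg_mul_neg]
  have dL := desc (F := lam M.T) fun y => by
    rw [lam, lam, M.neg, neg_mul_neg, ((show Commute M.j y from M.cen y).pow_left 3).mul_pow, ← pow_mul, j6, one_mul]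
  let δ : X →* X := θ.liftOfRightInverse _ (Function.rightInverse_surjInv hθ) ⟨θ.comp M.δ, fun y hy => by
    obtain ⟨n, rfl⟩ := k5 y hy
    rw [MonoidHom.mem_ker, map_pow, map_pow, MonoidHom.comp_apply, M.δj, map_inv, inv_pow, k4, inv_one, one_pow]⟩
  have hδ : ∀ y, δ (θ y) = θ (M.δ y) := fun y => θ.liftOfRightInverse_comp_apply _ _ _ y
  have cu : Cu (M.j ^ 2) := ⟨fun y => ((show Commute M.j y from M.cen y).pow_left 2).eq, fun y => by
    rw [← mul_assoc, ← mul_assoc, ← pow_add, ← pow_add, j6, one_mul]⟩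
  have tv' : ∀ {F : Y → ℂ} {y : Y} {v : ℤ × ℤ × ℤ}, (∀ y, F (Function.surjInv hθ (θ y)) = F y) →
      Val (M.j ^ 2) F y v → Val (θ (M.j ^ 2)) (fun x => F (Function.surjInv hθ x)) (θ y) v := fun h h' =>
    ⟨(h _).trans h'.1, by rw [← map_mul]; exact (h _).trans h'.2.1,
      by rw [← map_mul, ← map_mul]; exact (h _).trans h'.2.2⟩
  have vT : ∀ t < 37, Val (M.j ^ 2) M.T (M.lw (wd (sw t))) (tv t 0) ∧ Val (M.j ^ 2) M.T (M.lw (wd (sw t)) ^ 2) (tv t 1) ∧
      Val (M.j ^ 2) M.T ((M.lw (wd (sw t)) ^ 2) ^ 2) (tv t 2) := fun t ht => by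
    have h := tr_chk t ht
    rw [trT, Bool.and_eq_true, Bool.and_eq_true, Bool.and_eq_true] at h
    have h1 : ∀ x ∈ wd (sw t), x < 7 := fun x hx => Nat.blt_eq.mp (allL_spec h.1 x hx)
    refine ⟨pow_one (M.lw _) ▸ M.val _ 1 _ h1 ?_, M.val _ 2 _ h1 h.2.2.1, pow_mul (M.lw _) 2 2 ▸ M.val _ 4 _ h1 h.2.2.2⟩
    rw [pw, List.replicate_one, List.flatten_singleton]
    exact h.2.1
  have gT := isGeneralizedCharacter_of_isCharacter M.ch
  have z1 : θ (M.j ^ 2) ≠ 1 := by rw [map_pow, Ne, ← orderOf_dvd_iff_pow_eq_one, k3]; decide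
  have z2 : φ (θ (M.j ^ 2)) = 1 := by rw [map_pow, map_pow, k2, one_pow]
  have z3 : θ (M.j ^ 2) * θ (M.j ^ 2) = (θ (M.j ^ 2))⁻¹ := by
    rw [eq_inv_iff_mul_eq_one, ← map_mul, ← map_mul, ← pow_add, ← pow_add, j6, map_one]
  refine ⟨{ φ := φ
            z := θ (M.j ^ 2)
            δ := δ
            P := fun x => M.T (Function.surjInv hθ x) * M.T (Function.surjInv hθ x)
            L := fun x => lam M.T (Function.surjInv hθ x)
            R := fun t => θ (M.lw (wd (sw t)))
            surj := hφ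
            cu := ⟨fun x => (mem_center_iff.1 (hk.le z2) x).symm, fun x => by
              rw [← mul_assoc, ← mul_assoc, z3, inv_mul_cancel, one_mul]⟩
            φz := z2
            ker := fun x hx => ?_
            card := hk ▸ h3
            φδ := fun x => ?_
            δz := by rw [hδ, map_pow, M.δj, z3, inv_pow, map_inv]
            gP := gen_desc hθ (isGeneralizedCharacter_mul gT gT) dP
            gL := gen_desc hθ (gen_ext_two gT) dL
            δP := fun x => ?_
            δL := fun x => ?_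
            R0 := ?_
            ty := fun t ht => by rw [hq, M.q_lw, ty_wd ht]
            vP := fun t ht => tv' dP ((vT t ht).1.mul (vT t ht).1)
            vL := fun t ht => tv' dL ((vT t ht).1.lam cu (vT t ht).2.1 (div_ok t ht).1.1)
            vL2 := fun t ht => map_pow θ _ 2 ▸ tv' dL ((vT t ht).2.1.lam cu (vT t ht).2.2 (div_ok t ht).1.2.1) }, rfl⟩
  · rw [z3]
    exact (card_three (A := φ.ker) (hk ▸ h3) (m := ⟨_, z2⟩) (fun e => z1 (congrArg Subtype.val e)) ⟨x, hx⟩).imp
      (congrArg Subtype.val) (Or.imp (congrArg Subtype.val) (congrArg Subtype.val))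
  · obtain ⟨y, rfl⟩ := hθ x
    rw [hδ, hq, hq, M.qδ]
  · obtain ⟨y, rfl⟩ := hθ x
    rw [hδ, dP, dP, M.Tδ]
  · obtain ⟨y, rfl⟩ := hθ x
    rw [hδ, dL, dL, lam, lam, ← map_pow, M.Tδ, M.Tδ]
  · have h1 : wd (sw 0) = [0, 0, 0, 0] := rfl
    have h2 := (TD.ty_eq_zero mass (by decide) rfl (by decide) _).1 (ty_wd (t := 0) (by decide))
    rw [h1] at h2 ⊢
    rw [M.l0 ((M.q_lw _).trans h2), map_one]

end Z

/-- **the row of `3.Suz`** -/
theorem suz3 : SmC Spor.Suz := fun X _ _ φ hφ hk h3 hp _ => by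
  have := SporadicRecognition.SuzOrder.finiteSuz
  obtain ⟨S, rfl⟩ := Z.exists_sc Z.rp.md φ hφ hk h3 hp
  have hz : S.z ∈ center X := hk.le S.φz
  have h4 : ∀ w ∈ center X, w = 1 ∨ w = S.z ∨ w = S.z * S.z := fun w hw => S.ker w (hk.ge hw)
  have h5 : S.z * (S.z * S.z) = 1 := by simpa using S.cu.cube 1
  have h6 : S.z ≠ 1 := fun h => by
    rw [(eq_bot_iff_forall (center X)).2 fun w hw => by simpa [h] using h4 w hw, card_bot] at h3
    cases h3
  have h7 : S.z * S.z ≠ 1 := fun h => h6 (by rwa [h, mul_one] at h5)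
  refine sm_of_kk S.φ hφ hk (by rw [h3]; decide) ?_ SuzRow.cycN SuzRow.m0 fun l m hl hm => ?_
  · have h8 : Function.Injective S.δ := (injective_iff_map_eq_one _).2 fun x hx => by
      rcases S.ker x (KFacts.SuzRho.rho.map_eq_one_iff.1 (by rw [← S.φδ, hx, map_one])) with h | rfl | rfl
      · exact h
      · exact absurd (S.δz.symm.trans hx) h7
      · rw [map_mul, S.δz, mul_assoc, h5, mul_one] at hx
        exact absurd hx h6
    exact inn_of_aut S.φ hφ hk hp (out_cases S2074.result fun ⟨k, hk⟩ => H997.OutSuz.rho_outer k hk.symm)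
      (MulEquiv.ofBijective S.δ (Finite.injective_iff_bijective.1 h8)) S.φδ fun h =>
        h6 (mul_eq_left.1 (S.δz.symm.trans (h _ hz)))
  · have h0 : l 1 = 1 := (hm 1).trans (by rw [map_one, Units.val_one])
    have h8 : ∀ a ∈ center X, ∀ b ∈ center X, l (a * b) = l a * l b := fun a ha b hb =>
      (hm (⟨a, ha⟩ * ⟨b, hb⟩)).trans (by rw [map_mul, Units.val_mul, ← hm, ← hm])
    have h9 : l S.z ^ 2 + l S.z + 1 = 0 := mul_left_cancel₀ (sub_ne_zero.2 (mt (hl _ hz) h6)) (by
      have h := h8 _ hz _ (mul_mem hz hz)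
      rw [h5, h0, h8 _ hz _ hz] at h
      linear_combination -h)
    rw [kk_top, k0_of_degList TAB.Suz.deg]
    refine Eq.trans ?_ ((S.count h9).trans (by decide))
    refine Nat.card_congr (Equiv.subtypeEquivRight fun χ => and_congr_right fun hχ => ⟨fun h => h _ hz, fun h w hw => ?_⟩)
    obtain ⟨c, hc, -⟩ := ODD.Red.exists_central hχ.1 hz
    obtain rfl : c = l S.z := mul_right_cancel₀ (Characters.Core.isIrr_apply_one_ne_zero hχ.1) (by rw [← hc, mul_one, h])
    rcases h4 w hw with rfl | rfl | rfl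
    · rw [h0, one_mul]
    · exact h
    · rw [hc, h, h8 _ hz _ hz, mul_assoc]

end Cfsg.Agent.MK.S4
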