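import Cfsg.Agent.MK.S5.Alt
import Cfsg.Agent.MK.S5.Gen
import Cfsg.Agent.MK.T.C
import Cfsg.Agent.TAB.ON.Op
import Cfsg.Agent.TAB.Suz.Tool

/-!
# MK, rows `Suz`, `He`, `Ru` : tools (helper88)

* `Gn T y` : a `2`-group generated by involutions which are independent modulo the commutator subgroup; `Gn.fN_eq` counts
  the fixed linear characters;
* `not_const` : a member of a pair of a table is not constant on the types.
-/

set_option autoImplicit false

namespace Cfsg.Agent.MK.S4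

open Cfsg Subgroup Cfsg.Agent.MK.T Cfsg.Agent.TAB.Eng Cfsg.Agent.TAB.Use Cfsg.Agent.Characters

section loc

variable {G : Type} [Group G] {m : ℕ} {T : Subgroup G} {y : Fin m → G}

/-- independent generators -/
structure Gn (T : Subgroup G) (y : Fin m → G) : Prop where
  mem : ∀ i, y i ∈ T
  le : T ≤ closure (Set.range y)
  sq : ∀ i, y i * y i = 1
  two : IsPGroup 2 T
  ge : 2 ^ m ≤ ab T

theorem cm_le (T : Subgroup G) : ⁅T, T⁆ ≤ T :=
  commutator_le.2 fun _ ha _ hb => mul_mem (mul_mem (mul_mem ha hb) (inv_mem ha)) (inv_mem hb)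

theorem le_ab [Finite G] {W : Subgroup G} {n : ℕ} (hT : Nat.card T = 2 ^ (m + n)) (hW : ⁅T, T⁆ ≤ W)
    (hc : Nat.card W ≤ 2 ^ n) : 2 ^ m ≤ ab T := by
  have h1 := card_mul_index (_root_.commutator T)
  have h2 : Nat.card (_root_.commutator T) ≤ 2 ^ n := by
    rw [commutator_eq_subgroupOf, Nat.card_congr (subgroupOfEquivOfLe (cm_le T)).toEquiv]
    exact (card_le_of_le hW).trans hc
  rw [hT, pow_add, mul_comm (2 ^ m)] at h1
  refine Nat.le_of_mul_le_mul_left (c := 2 ^ n) (h1.ge.trans ?_) (by positivity)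
  exact Nat.mul_le_mul_right _ h2

/-- the sign -/
def sg (b : Bool) : ℂˣ := bif b then -1 else 1

theorem sg_xor (a b : Bool) : sg (xor a b) = sg a * sg b := by
  cases a <;> cases b <;> simp [sg]

theorem sg_inj {a b : Bool} (h : sg a = sg b) : a = b := by
  have h1 : (-1 : ℂˣ) ≠ 1 := fun e => by
    have := congrArg Units.val e
    norm_num at this
  cases a <;> cases b
  · rfl
  · exact absurd h.symm h1
  · exact absurd h h1
  · rfl

/-- the parity of a word -/
def par (s : Fin m → Bool) (w : List (Fin m)) : Bool := w.foldr (fun i b => xor (s i) b) false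

theorem Gn.word_mem (h : Gn T y) (w : List (Fin m)) : (w.map y).prod ∈ T :=
  list_prod_mem fun _ hx => by
    obtain ⟨i, -, rfl⟩ := List.mem_map.1 hx
    exact h.mem i

theorem Gn.ext (h : Gn T y) {μ ν : T →* ℂˣ} (e : ∀ i, μ ⟨y i, h.mem i⟩ = ν ⟨y i, h.mem i⟩) : μ = ν := by
  have h1 : closure (Set.range y) ≤ (μ.eqLocus ν).map T.subtype := (closure_le _).2 (by
    rintro _ ⟨i, rfl⟩
    exact ⟨⟨y i, h.mem i⟩, e i, rfl⟩)
  refine MonoidHom.ext fun x => ?_
  obtain ⟨x', h2, h3⟩ := h1 (h.le x.2)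
  rw [← show x' = x from Subtype.ext h3]
  exact h2

theorem Gn.exists_sg (h : Gn T y) (μ : T →* ℂˣ) (i : Fin m) : ∃ b, μ ⟨y i, h.mem i⟩ = sg b := by
  have h1 : μ ⟨y i, h.mem i⟩ * μ ⟨y i, h.mem i⟩ = 1 := by
    rw [← map_mul, ← map_one μ]
    exact congrArg μ (Subtype.ext (h.sq i))
  have h2 := congrArg Units.val h1
  rcases mul_self_eq_one_iff.1 h2 with h3 | h3
  · exact ⟨false, Units.ext h3⟩
  · exact ⟨true, Units.ext h3⟩

/-- the signs of a linear character -/
noncomputable def Gn.sn (h : Gn T y) (μ : T →* ℂˣ) (i : Fin m) : Bool := (h.exists_sg μ i).choose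

theorem Gn.sn_spec (h : Gn T y) (μ : T →* ℂˣ) (i : Fin m) : μ ⟨y i, h.mem i⟩ = sg (h.sn μ i) :=
  (h.exists_sg μ i).choose_spec

theorem Gn.sn_inj (h : Gn T y) : Function.Injective h.sn := fun μ ν e =>
  h.ext fun i => by rw [h.sn_spec, h.sn_spec, e]

theorem Gn.ab_eq [Finite G] (h : Gn T y) : ab T = 2 ^ m := by
  refine le_antisymm ?_ h.ge
  have h1 := Nat.card_le_card_of_injective _ h.sn_inj
  rwa [← ab_eq_card, Nat.card_fun, Nat.card_eq_fintype_card, Nat.card_eq_fintype_card, Fintype.card_bool,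
    Fintype.card_fin] at h1

theorem Gn.sn_bij [Finite G] (h : Gn T y) : Function.Bijective h.sn := by
  refine (Nat.bijective_iff_injective_and_card _).2 ⟨h.sn_inj, ?_⟩
  rw [← ab_eq_card, h.ab_eq, Nat.card_fun, Nat.card_eq_fintype_card, Nat.card_eq_fintype_card, Fintype.card_bool,
    Fintype.card_fin]

theorem Gn.word (h : Gn T y) (μ : T →* ℂˣ) : ∀ w : List (Fin m), μ ⟨_, h.word_mem w⟩ = sg (par (h.sn μ) w)
  | [] => map_one μ
  | i :: w => by
    have e : (⟨_, h.word_mem (i :: w)⟩ : T) = ⟨y i, h.mem i⟩ * ⟨_, h.word_mem w⟩ := Subtype.ext rfl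
    rw [e, map_mul, Gn.word h μ w, h.sn_spec]
    exact (sg_xor _ _).symm

variable {α : MulAut G} {w : Fin m → List (Fin m)}

theorem Gn.stab [Finite G] (h : Gn T y) (hw : ∀ i, ∃ c ∈ ⁅T, T⁆, α (y i) = ((w i).map y).prod * c) (x : G) :
    α x ∈ T ↔ x ∈ T := by
  refine stab_of_le (fun x hx => ?_) x
  have h1 : closure (Set.range y) ≤ T.comap α.toMonoidHom := (closure_le _).2 (by
    rintro _ ⟨i, rfl⟩
    obtain ⟨c, hc, e⟩ := hw i
    change α (y i) ∈ T
    rw [e]
    exact mul_mem (h.word_mem _) (cm_le T hc))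
  exact h1 (h.le hx)

/-- **the fixed linear characters** -/
theorem Gn.fN_eq [Finite G] (h : Gn T y) (hw : ∀ i, ∃ c ∈ ⁅T, T⁆, α (y i) = ((w i).map y).prod * c) :
    fN T α = (Finset.univ.filter fun s : Fin m → Bool => ∀ i, par s (w i) = s i).card := by
  have key : ∀ (μ : T →* ℂˣ) (i : Fin m), μ (res T α (h.stab hw) ⟨y i, h.mem i⟩) = sg (par (h.sn μ) (w i)) := by
    intro μ i
    obtain ⟨c, hc, e⟩ := hw i
    have e1 : res T α (h.stab hw) ⟨y i, h.mem i⟩ = ⟨_, h.word_mem (w i)⟩ * ⟨c, cm_le T hc⟩ :=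
      Subtype.ext e
    have e2 : μ ⟨c, cm_le T hc⟩ = 1 :=
      Abelianization.commutator_subset_ker μ (by rw [commutator_eq_subgroupOf]; exact hc)
    rw [e1, map_mul, e2, mul_one, h.word]
  rw [fN_eq_f0 (res_coe T α (h.stab hw)), f0_two h.two, ← Fintype.card_subtype, ← Nat.card_eq_fintype_card]
  refine Nat.card_congr (Equiv.subtypeEquiv (Equiv.ofBijective _ h.sn_bij) fun μ => ⟨fun e i => ?_, fun e => ?_⟩)
  · exact sg_inj ((key μ i).symm.trans ((e _).trans (h.sn_spec μ i)))
  · exact DFunLike.congr_fun (h.ext (μ := μ.comp (res T α (h.stab hw)).toMonoidHom) (ν := μ) fun i =>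
      (key μ i).trans ((congrArg sg (e i)).trans (h.sn_spec μ i).symm))

end loc

section glob

variable {G : Type} [Group G] [Finite G] {D : Dat} {T : TD G D} {R : Rows} {χ : ℕ → G → ℂ}

omit [Finite G] in
/-- a biorthogonal family of functions which are constant on the types -/
theorem card_le_types [Fintype G] {ι : Type} [Fintype ι] [DecidableEq ι] (v ψ : ι → G → ℂ)
    (hv : ∀ a g h, T.ty g = T.ty h → v a g = v a h) (h : ∀ a b, classInner (v a) (ψ b) = if a = b then 1 else 0) :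
    Fintype.card ι ≤ D.n := by
  classical
  let u : ι → Fin D.n → ℂ := fun a t => if h : ∃ g, T.ty g = t then v a h.choose else 0
  have hu : ∀ a g, u a ⟨T.ty g, T.lt g⟩ = v a g := fun a g => by
    have h1 : ∃ g', T.ty g' = T.ty g := ⟨g, rfl⟩
    exact (dif_pos h1).trans (hv a _ _ h1.choose_spec)
  have hl : LinearIndependent ℂ u := by
    rw [Fintype.linearIndependent_iff]
    intro c hc b
    have h1 : ∀ g, ∑ a, c a * v a g = 0 := fun g => by
      have h2 := congrFun hc ⟨T.ty g, T.lt g⟩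
      simpa only [Finset.sum_apply, Pi.smul_apply, smul_eq_mul, hu, Pi.zero_apply] using h2
    have h2 : ∑ a, c a * classInner (v a) (ψ b) = 0 := by
      simp only [classInner, Finset.mul_sum]
      rw [Finset.sum_comm]
      refine Finset.sum_eq_zero fun g _ => ?_
      rw [← mul_zero ((Nat.card G : ℂ)⁻¹ * starRingEnd ℂ (ψ b g)), ← h1 g, Finset.mul_sum]
      exact Finset.sum_congr rfl fun a _ => by ring
    simpa [h] using h2
  simpa using hl.fintype_card_le_finrank

/-- `I` contains one character of each relation, and there are as many relations as types -/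
def repB (D : Dat) (R : Rows) (I : List ℕ) : Bool :=
  R.rel.length == D.n && I.length == D.n && (R.rel.all fun r => r.1.all fun p => decide (p.1 < R.n)) &&
    (List.range D.n).all fun b => decide (I.getD b 0 < R.n) &&
      (List.range D.n).all fun a => coef (R.rel.getD a ([], [])).1 (I.getD b 0) == if a = b then 1 else 0

/-- **the other characters are not constant on the types** -/
theorem not_const (hE : Enum G R.n R.d χ) (hR : Rel T R χ) {I : List ℕ} (hI : repB D R I = true) {j : ℕ}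
    (hj : j < R.n) (hn : j ∉ I) : ¬ ∀ g h, T.ty g = T.ty h → χ j g = χ j h := fun hc => by
  have := Fintype.ofFinite G
  simp only [repB, Bool.and_eq_true, beq_iff_eq, List.all_eq_true, decide_eq_true_eq, List.mem_range] at hI
  obtain ⟨⟨⟨h1, h2⟩, h3⟩, h4⟩ := hI
  have hm : ∀ a : Fin D.n, R.rel.getD a ([], []) ∈ R.rel := fun a => by
    rw [List.getD_eq_getElem _ _ (by rw [h1]; exact a.2)]
    exact List.getElem_mem _
  have hne : ∀ b : Fin D.n, j ≠ I.getD b 0 := fun b e => hn (by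
    rw [e, List.getD_eq_getElem _ _ (by rw [h2]; exact b.2)]
    exact List.getElem_mem _)
  let c : Option (Fin D.n) → List (ℕ × ℤ) := fun a => a.elim [(j, 1)] fun a =>
    (j, -coef (R.rel.getD a ([], [])).1 j) :: (R.rel.getD a ([], [])).1
  let i : Option (Fin D.n) → ℕ := fun b => b.elim j fun b => I.getD b 0
  have h5 := card_le_types (T := T) (fun a g => ((c a).map fun p => (p.2 : ℂ) * χ p.1 g).sum) (fun b => χ (i b))
    (fun a g h e => by
      cases a with
      | none => simp only [c, Option.elim, List.map_cons, List.map_nil, hc g h e]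
      | some a => simp only [c, Option.elim, List.map_cons, List.sum_cons, hc g h e, hR _ (hm a), e])
    (fun a b => by
      have h6 : i b < R.n := by
        cases b with
        | none => exact hj
        | some b => exact (h4 b b.2).1
      rw [inner_comb hE h6 (c a) (by
        cases a with
        | none => exact List.forall_mem_singleton.2 hj
        | some a => exact List.forall_mem_cons.2 ⟨hj, h3 _ (hm a)⟩)]
      have h7 : ∀ (x : ℤ) (l : List (ℕ × ℤ)) (k : ℕ), coef ((j, x) :: l) k = (if j = k then x else 0) + coef l k :=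
        fun _ _ _ => rfl
      cases a with
      | none => cases b with
        | none => simp [c, i, coef]
        | some b => simpa [c, i, coef] using hne b
      | some a => cases b with
        | none => simp [c, i, h7]
        | some b =>
          simp only [c, i, Option.elim, h7, if_neg (hne b), zero_add, (h4 b b.2).2 a a.2, Option.some.injEq, Fin.ext_iff]
          split_ifs <;> simp)
  simp at h5

/-- a member of a pair with rational values at `g` -/
theorem pair_half (hE : Enum G R.n R.d χ) (hR : Rel T R χ) (hr : TAB.ON.Rat T) {I : List ℕ} (hI : repB D R I = true)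
    {r : List (ℕ × ℤ) × List ℤ} (hm : r ∈ R.rel) {j k : ℕ} (hj : j < R.n) (hk : k < R.n) (hne : k ≠ j)
    (h : r.1 = [(j, 1), (k, 1)] ∨ r.1 = [(k, 1), (j, 1)]) (hn : j ∉ I ∨ k ∉ I) {g : G}
    (hg : ∀ s : ℕ, s.Coprime (orderOf g) → χ j (g ^ s) = χ j g) :
    χ j g + χ j g = ((r.2.getD (T.ty g) 0 : ℤ) : ℂ) := by
  have hc := Core.isIrr_isCharacter (hE.irr j hj)
  by_cases h1 : ∀ τ : ℂ ≃+* ℂ, ODD.Red.Fix τ (χ j)
  · have h2 : ∀ a b, T.ty a = T.ty b → χ j a = χ j b := fun a b e => by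
      obtain ⟨s, hs⟩ := hr a b e
      obtain ⟨τ, hτ⟩ := GaloisBasic.exists_ringEquiv_pow (orderOf_pos a).ne'
        (TAB.ON.coprime_of_conj (by rw [T.ord, T.ord, e]) hs)
      have h3 : τ (χ j a) = _ := GaloisBasic.map_apply (τ : ℂ →+* ℂ) hτ hc (orderOf_pos a).ne' (pow_orderOf_eq_one a)
      obtain ⟨c, rfl⟩ := isConj_iff.1 hs
      rw [Core.isIrr_isClassFunction (hE.irr j hj), ← h3, h1 τ]
    rcases hn with hn | hn
    · exact absurd h2 (not_const hE hR hI hj hn)
    · refine absurd (fun a b e => ?_) (not_const hE hR hI hk hn)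
      have h3 := TAB.Sz.pair_sum hR hm h a
      rw [e, ← TAB.Sz.pair_sum hR hm h b, h2 a b e] at h3
      exact add_left_cancel h3
  · obtain ⟨τ, hτ⟩ := not_forall.1 h1
    obtain ⟨s, hs, h2⟩ := GaloisBasic.exists_coprime_pow (τ : ℂ →+* ℂ) (orderOf_pos g).ne'
    have h3 : τ (χ j g) = _ := GaloisBasic.map_apply (τ : ℂ →+* ℂ) h2 hc (orderOf_pos g).ne' (pow_orderOf_eq_one g)
    rw [← TAB.Sz.pair_sum hR hm h g, ← (TAB.Sz.pair_map hE hR hm hj hk hne h τ).resolve_left hτ g, h3, hg s hs]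

/-- `m` is a multiplier of `ψ` on the powers of `g` -/
def Mu (ψ : G → ℂ) (g : G) (m : ℕ) : Prop := ∀ i : ℕ, ψ (g ^ (i * m)) = ψ (g ^ i)

omit [Finite G] in
theorem Mu.mul {ψ : G → ℂ} {g : G} {a b : ℕ} (ha : Mu ψ g a) (hb : Mu ψ g b) : Mu ψ g (a * b) := fun i => by
  rw [← mul_assoc, hb, ha]

omit [Finite G] in
theorem Mu.pow {ψ : G → ℂ} {g : G} {a : ℕ} (ha : Mu ψ g a) : ∀ k, Mu ψ g (a ^ k)
  | 0 => fun i => by rw [pow_zero, mul_one]
  | k + 1 => by
    rw [pow_succ]
    exact (Mu.pow ha k).mul ha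

omit [Finite G] in
theorem mu_of_aut {ψ : G → ℂ} (h : IsClassFunction G ψ) {α : MulAut G} (hα : ∀ x, ψ (α x) = ψ x) {g c : G} {m : ℕ}
    (e : c * α g = g ^ m * c) : Mu ψ g m := fun i => by
  have h1 : g ^ m = c * α g * c⁻¹ := by rw [e, mul_inv_cancel_right]
  rw [mul_comm, pow_mul, h1, conj_pow, h, ← map_pow, hα]

theorem rat_of_mu {ψ : G → ℂ} {g : G} {n a b : ℕ} (hg : orderOf g = n) (ha : Mu ψ g a) (hb : Mu ψ g b) (i : ℕ)
    (hc : ∀ s < n, s.Coprime (n / n.gcd i) → ∃ u < n, ∃ v < 2, i * s % n = i * (a ^ u * b ^ v) % n) (s : ℕ)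
    (hs : s.Coprime (orderOf (g ^ i))) : ψ ((g ^ i) ^ s) = ψ (g ^ i) := by
  have h0 : 0 < n := hg ▸ orderOf_pos g
  rw [orderOf_pow, hg] at hs
  obtain ⟨u, -, v, -, h⟩ := hc (s % n) (Nat.mod_lt _ h0) (by
    rw [Nat.Coprime, Nat.gcd_comm, Nat.gcd_rec, Nat.mod_mod_of_dvd _ (Nat.div_dvd_of_dvd (Nat.gcd_dvd_left n i)),
      ← Nat.gcd_rec, Nat.gcd_comm]
    exact hs)
  rw [← pow_mul, pow_eq_pow_mod _ (hg ▸ pow_orderOf_eq_one g : g ^ n = 1), ← Nat.mul_mod_mod, h,
    ← pow_eq_pow_mod _ (hg ▸ pow_orderOf_eq_one g : g ^ n = 1)]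
  exact (ha.pow u).mul (hb.pow v) i

theorem half_cong {ψ : G → ℂ} (hc : IsCharacter G ψ) {g : G} {a b : ℤ} (ha : ψ g + ψ g = a)
    (hb : ψ (g ^ 2) + ψ (g ^ 2) = b) : (b - a) % 4 = 0 := by
  obtain ⟨a, rfl⟩ := Int.dvd_of_emod_eq_zero (even_of_integral (GaloisBasic.isIntegral_apply hc _) ha)
  obtain ⟨b, rfl⟩ := Int.dvd_of_emod_eq_zero (even_of_integral (GaloisBasic.isIntegral_apply hc _) hb)
  have h4 := TAB.Sz.gen_cong' (Brauer.isGeneralizedCharacter_of_isCharacter hc) (g := g) (a := a) (b := b)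
    Nat.prime_two (by push_cast at ha; linear_combination ha / 2) (by push_cast at hb; linear_combination hb / 2)
  push_cast at h4
  omega

omit [Finite G] in
/-- three characters of the same degree -/
theorem fix_third {n : ℕ} {d : ℕ → ℕ} (hE : Enum G n d χ) {α : MulAut G} (h2 : ∀ x, α (α x) = x) {j a b : ℕ}
    (hj : j < n) (ha : a < n) (hb : b < n) (hab : a ≠ b) (hja : j ≠ a) (hjb : j ≠ b) (hda : d a = d j) (hdb : d b = d j)
    (h : ∀ i < n, d i = d j → i = j ∨ i = a ∨ i = b) (na : ¬ ∀ x, χ a (α x) = χ a x) (nb : ¬ ∀ x, χ b (α x) = χ b x)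
    (x : G) : χ j (α x) = χ j x := by
  obtain ⟨i, hi, hd, e⟩ := enum_perm hE α hj
  rcases h i hi hd with rfl | rfl | rfl
  · exact e x
  · obtain ⟨k, hk, hd', e'⟩ := enum_perm hE α hb
    rcases h k hk (hd'.trans hdb) with rfl | rfl | rfl
    · exact absurd (hE.inj _ ha _ hb (funext fun y => by rw [← e, ← e', h2])) hab
    · exact absurd (hE.inj _ hj _ hb (funext fun y => by rw [← h2 y, e, e'])) hjb
    · exact absurd e' nb
  · obtain ⟨k, hk, hd', e'⟩ := enum_perm hE α ha
    rcases h k hk (hd'.trans hda) with rfl | rfl | rfl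
    · exact absurd (hE.inj _ ha _ hb (funext fun y => by rw [← e, ← e', h2])) hab
    · exact absurd e' na
    · exact absurd (hE.inj _ hj _ ha (funext fun y => by rw [← h2 y, e, e'])) hja

end glob

end Cfsg.Agent.MK.S4
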