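import Cfsg.Agent.MK.S4.ZE
import Cfsg.Agent.MK.S4.Suz
import Cfsg.Agent.H829.GowDesc

/-!
# MK, `3.Suz` : the faithful characters from three seeds (helper88)

* `Val`, `lam`, `prj` : the values at the three multiples, the exterior square, the faithful part;
* `Sc` : a triple cover with the outer automorphism and two generalized characters;
* `Sc.card` : sixteen characters of odd degree.
-/

set_option autoImplicit false
set_option maxRecDepth 100000
set_option Elab.async false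

namespace Cfsg.Agent.MK.S4.Z

open Cfsg Finset Cfsg.Agent.TAB.Eng Cfsg.Agent.TAB.Sz Cfsg.Agent.Characters Cfsg.Agent.Characters.Core
open Cfsg.Agent.Characters.Brauer Cfsg.Agent.H447.CTab Cfsg.Agent.KFacts.SuzRho
open Cfsg.Spor (Suz)
open scoped ComplexConjugate

section ops

variable {X : Type} [Group X] {z y : X} {F H : X → ℂ} {v u : ℤ × ℤ × ℤ}

/-- the values at the three multiples -/
def Val (z : X) (F : X → ℂ) (y : X) (v : ℤ × ℤ × ℤ) : Prop :=
  F y = v.1 ∧ F (z * y) = v.2.1 ∧ F (z * (z * y)) = v.2.2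

/-- the exterior square -/
noncomputable def lam (F : X → ℂ) (y : X) : ℂ := (F y * F y - F (y ^ 2)) / 2

/-- the sum over the three multiples -/
noncomputable def av (z : X) (F : X → ℂ) (y : X) : ℂ := F y + F (z * y) + F (z * (z * y))

/-- the faithful part -/
noncomputable def prj (z : X) (F : X → ℂ) (y : X) : ℂ := F y - av z F y / 3

/-- a central element with trivial cube -/
structure Cu (z : X) : Prop where
  cen : ∀ y, z * y = y * z
  cube : ∀ y, z * (z * (z * y)) = y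

theorem Cu.sq (h : Cu z) (y : X) : (z * y) ^ 2 = z * (z * y ^ 2) := by
  rw [(show Commute z y from h.cen y).mul_pow, pow_two z, mul_assoc]

theorem Cu.conj (h : Cu z) (y c : X) : z * (c * y * c⁻¹) = c * (z * y) * c⁻¹ := by
  rw [← mul_assoc, ← mul_assoc, h.cen c, mul_assoc c]

theorem Cu.av_z (h : Cu z) (F : X → ℂ) (y : X) : av z F (z * y) = av z F y := by
  rw [av, av, h.cube]
  ring

theorem Cu.av_prj (h : Cu z) (F : X → ℂ) (y : X) : av z (prj z F) y = 0 := by
  rw [av, prj, prj, prj]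
  simp only [h.av_z]
  rw [av]
  ring

theorem Val.av (h : Val z F y v) : av z F y = sm v := by
  rw [Z.av, h.1, h.2.1, h.2.2, sm, Int.cast_add, Int.cast_add]

theorem Val.lam (c : Cu z) (h : Val z F y v) (h' : Val z F (y ^ 2) u) (o : okL v u) : Val z (lam F) y (lamV v u) := by
  have e : ∀ a b : ℤ, 2 ∣ a * a - b → ((a : ℂ) * a - b) / 2 = ((a * a - b) / 2 : ℤ) := fun a b h => by
    rw [Int.cast_div_charZero h]
    push_cast
    rfl
  refine ⟨?_, ?_, ?_⟩
  · rw [Z.lam, h.1, h'.1, e _ _ o.1]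
    rfl
  · rw [Z.lam, h.2.1, c.sq, h'.2.2, e _ _ o.2.1]
    rfl
  · rw [Z.lam, h.2.2, c.sq, c.sq, c.cube, h'.2.1, e _ _ o.2.2]
    rfl

theorem Val.prj (c : Cu z) (h : Val z F y v) (o : 3 ∣ sm v) : Val z (prj z F) y (prjV v) := by
  have e : ∀ a : ℤ, (a : ℂ) - (sm v : ℤ) / 3 = (a - sm v / 3 : ℤ) := fun a => by
    rw [Int.cast_sub, Int.cast_div_charZero o]
    push_cast
    rfl
  refine ⟨?_, ?_, ?_⟩
  · rw [Z.prj, h.av, h.1, e]
    rfl
  · rw [Z.prj, c.av_z, h.av, h.2.1, e]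
    rfl
  · rw [Z.prj, c.av_z, c.av_z, h.av, h.2.2, e]
    rfl

theorem Val.mul (h : Val z F y v) (h' : Val z H y u) : Val z (fun x => F x * H x) y (mulV v u) :=
  ⟨(congrArg₂ _ h.1 h'.1).trans (Int.cast_mul _ _).symm, (congrArg₂ _ h.2.1 h'.2.1).trans (Int.cast_mul _ _).symm,
    (congrArg₂ _ h.2.2 h'.2.2).trans (Int.cast_mul _ _).symm⟩

theorem gen_prj [Finite X] (c : Cu z) (h : IsGeneralizedCharacter X F) : IsGeneralizedCharacter X (prj z F) := by
  have := Fintype.ofFinite X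
  have := finite_irr (G := X)
  have := Fintype.ofFinite (IrrCharacter X)
  have h0 := gen_classFunction h
  refine isGeneralizedCharacter_of_int (fun g s => by rw [prj, prj, av, av, c.conj, c.conj, h0, h0, h0]) fun χ hχ => ?_
  obtain ⟨d, h1, h2, -⟩ := ODD.Red.exists_central hχ (Subgroup.mem_center_iff.2 fun g => (c.cen g).symm)
  have h3 : conj d ^ 3 = 1 := by
    rw [← map_pow, h2 3 (by rw [pow_three, ← mul_one (z * z), mul_assoc, c.cube]), map_one]
  have h4 := S7.inner_shift F h1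
  have h5 := S7.inner_shift (fun x => F (z * x)) h1
  have h6 : prj z F = F - (3⁻¹ : ℂ) • (F + (fun x => F (z * x)) + fun x => F (z * (z * x))) := funext fun x => by
    rw [prj, av, div_eq_inv_mul]
    rfl
  have h7 := inner_mu h ⟨χ, hχ⟩
  rw [h6, classInner_sub_left, classInner_smul_left, classInner_add_left, classInner_add_left]
  by_cases h8 : conj d = 1
  · rw [h8, one_mul] at h4 h5
    exact ⟨0, by rw [← h5, ← h4]; ring⟩
  · have h9 : conj d ^ 2 + conj d + 1 = 0 := mul_left_cancel₀ (sub_ne_zero.2 h8) (by linear_combination h3)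
    refine ⟨_, Eq.trans ?_ h7⟩
    change _ = classInner F χ
    rw [h4, h5]
    linear_combination (-3⁻¹ * classInner (fun x => F (z * (z * x))) χ) * h9

end ops

/-- a triple cover with the outer automorphism and the two characters -/
structure Sc (X : Type) [Group X] where
  φ : X →* Suz
  z : X
  δ : X →* X
  P : X → ℂ
  L : X → ℂ
  R : ℕ → X
  surj : Function.Surjective φ
  cu : Cu z
  φz : φ z = 1
  ker : ∀ x, φ x = 1 → x = 1 ∨ x = z ∨ x = z * z
  card : Nat.card φ.ker = 3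
  φδ : ∀ x, φ (δ x) = rho (φ x)
  δz : δ z = z * z
  gP : IsGeneralizedCharacter X P
  gL : IsGeneralizedCharacter X L
  δP : ∀ x, P (δ x) = P x
  δL : ∀ x, L (δ x) = L x
  R0 : R 0 = 1
  ty : ∀ t < 37, td.ty (φ (R t)) = t
  vP : ∀ t < 37, Val z P (R t) (mulV (tv t 0) (tv t 0))
  vL : ∀ t < 37, Val z L (R t) (lamV (tv t 0) (tv t 1))
  vL2 : ∀ t < 37, Val z L (R t ^ 2) (lamV (tv t 1) (tv t 2))

namespace Sc

variable {X : Type} [Group X] (S : Sc X) {F H : X → ℂ}

/-- invariant functions -/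
def Inv (F : X → ℂ) : Prop := IsClassFunction X F ∧ ∀ x, F (S.δ x) = F x

theorem δ_z (y : X) : S.δ (S.z * y) = S.z * (S.z * S.δ y) := by rw [map_mul, S.δz, mul_assoc]

theorem δ_zz (y : X) : S.δ (S.z * (S.z * y)) = S.z * S.δ y := by rw [δ_z, δ_z, S.cu.cube]

theorem av_δ (h : ∀ x, F (S.δ x) = F x) (x : X) : av S.z F (S.δ x) = av S.z F x := by
  rw [av, av, ← δ_z, ← δ_zz, h, h, h]
  ring

variable {S} in
theorem Inv.av (h : S.Inv F) : S.Inv (av S.z F) :=
  ⟨fun g s => by rw [Z.av, Z.av, S.cu.conj, S.cu.conj, h.1, h.1, h.1], S.av_δ h.2⟩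

variable {S} in
theorem Inv.mul (h : S.Inv F) (h' : S.Inv H) : S.Inv fun x => F x * H x :=
  ⟨fun g s => congrArg₂ _ (h.1 g s) (h'.1 g s), fun x => congrArg₂ _ (h.2 x) (h'.2 x)⟩

theorem eq_of {x y : X} (h : S.φ x = S.φ y) : x = y ∨ x = S.z * y ∨ x = S.z * (S.z * y) := by
  rcases S.ker (x * y⁻¹) (by rw [map_mul, map_inv, h, mul_inv_cancel]) with e | e | e
  · exact Or.inl (mul_inv_eq_one.1 e)
  · exact Or.inr (Or.inl (mul_inv_eq_iff_eq_mul.1 e))
  · exact Or.inr (Or.inr ((mul_inv_eq_iff_eq_mul.1 e).trans (mul_assoc _ _ _)))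

/-- **every element is conjugate to a multiple of a representative** -/
theorem key (x : X) : ∃ k < 3, ∀ (F : X → ℂ) (v : ℤ × ℤ × ℤ), S.Inv F → Val S.z F (S.R (td.ty (S.φ x))) v →
    F x = g3 v k := by
  obtain ⟨σ, h, -⟩ := hom _ _ (S.ty _ (td.lt (S.φ x)))
  generalize S.R (td.ty (S.φ x)) = r at h
  obtain ⟨s, e⟩ := T.out_cases S2074.result (β := rho) (fun ⟨k, hk⟩ => H997.OutSuz.rho_outer k hk.symm) σ
  obtain ⟨s, rfl⟩ := S.surj s
  rcases e with rfl | rfl
  · rcases S.eq_of (x := x) (y := s * r * s⁻¹) (by rw [← h, map_mul, map_mul, map_inv]; rfl) with e | e | e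
    · exact ⟨0, by omega, fun F v h1 h2 => by rw [e, h1.1, h2.1]; rfl⟩
    · exact ⟨1, by omega, fun F v h1 h2 => by rw [e, S.cu.conj, h1.1, h2.2.1]; rfl⟩
    · exact ⟨2, by omega, fun F v h1 h2 => by rw [e, S.cu.conj, S.cu.conj, h1.1, h2.2.2]; rfl⟩
  · rcases S.eq_of (x := x) (y := s * S.δ r * s⁻¹) (by rw [← h, map_mul, map_mul, map_inv, S.φδ]; rfl) with e | e | e
    · exact ⟨0, by omega, fun F v h1 h2 => by rw [e, h1.1, h1.2, h2.1]; rfl⟩
    · exact ⟨2, by omega, fun F v h1 h2 => by rw [e, S.cu.conj, h1.1, ← δ_zz, h1.2, h2.2.2]; rfl⟩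
    · exact ⟨1, by omega, fun F v h1 h2 => by rw [e, S.cu.conj, S.cu.conj, h1.1, ← δ_z, h1.2, h2.2.1]; rfl⟩

/-- the inflated rows -/
noncomputable def U (c : List (List (ℤ × ℕ))) (j : ℕ) (x : X) : ℂ := (nth (cU c j) (td.ty (S.φ x)) : ℤ)

/-- the faithful functions -/
noncomputable def FF (j : ℕ) (x : X) : ℂ :=
  prj S.z S.L x * S.U cfa j x + prj S.z S.P x * S.U cfb j x + prj S.z (lam (prj S.z S.L)) x * S.U cfc j x

theorem U_z (c : List (List (ℤ × ℕ))) (j : ℕ) (x : X) : S.U c j (S.z * x) = S.U c j x := by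
  rw [U, map_mul, S.φz, one_mul, U]

theorem av_FF (j : ℕ) (x : X) : av S.z (S.FF j) x = 0 := by
  have h1 := S.cu.av_prj S.L x
  have h2 := S.cu.av_prj S.P x
  have h3 := S.cu.av_prj (lam (prj S.z S.L)) x
  rw [av] at h1 h2 h3
  simp only [av, FF, U_z]
  linear_combination S.U cfa j x * h1 + S.U cfb j x * h2 + S.U cfc j x * h3

theorem FF_δ (j : ℕ) (x : X) : S.FF j (S.δ x) = S.FF j x := by
  have h1 : ∀ {F : X → ℂ}, (∀ x, F (S.δ x) = F x) → ∀ x, prj S.z F (S.δ x) = prj S.z F x := fun h x => by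
    rw [prj, prj, S.av_δ h, h]
  have h2 : ∀ c, S.U c j (S.δ x) = S.U c j x := fun c => by
    rw [U, U, S.φδ, td_ty, td_ty, H714.S8.SuzFam.fam_aut]
  rw [FF, FF, h1 S.δL, h1 S.δP, h2, h2, h2, h1 fun x => by rw [lam, lam, ← map_pow, h1 S.δL, h1 S.δL]]

theorem val_FF {j t : ℕ} (hj : j < 36) (ht : t < 37) : Val S.z (S.FF j) (S.R t) (vF j t) := by
  obtain ⟨⟨-, -, o1⟩, o2, o3, o4, o5⟩ := div_ok t ht
  have ha : Val S.z _ _ (va t) := (S.vL t ht).prj S.cu o2
  have hb : Val S.z _ _ (vb t) := (S.vP t ht).prj S.cu o4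
  have hc : Val S.z _ _ (vc t) := (ha.lam S.cu ((S.vL2 t ht).prj S.cu o3) o1).prj S.cu o5
  have h1 := row_ok j hj
  rw [rowB', frcLZ_eq, frcLZ_eq, frcLZ_eq] at h1
  have h2 := fun k hk => congrArg (Int.cast : ℤ → ℂ)
    (of_decide_eq_true (allL_spec (allL_spec h1 t (List.mem_range.2 ht)) k hk))
  have h3 : ∀ c, S.U c j (S.R t) = (nth (cU c j) t : ℤ) := fun c => by rw [U, S.ty t ht]
  simp only [Int.cast_add, Int.cast_mul] at h2
  refine ⟨?_, ?_, ?_⟩
  · rw [FF, ha.1, hb.1, hc.1, h3, h3, h3]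
    exact (h2 0 (by decide)).symm
  · rw [FF, ha.2.1, hb.2.1, hc.2.1, U_z, U_z, U_z, h3, h3, h3]
    exact (h2 1 (by decide)).symm
  · rw [FF, ha.2.2, hb.2.2, hc.2.2, U_z, U_z, U_z, U_z, U_z, U_z, h3, h3, h3]
    exact (h2 2 (by decide)).symm

variable [Finite X]

theorem gen_FF (j : ℕ) : IsGeneralizedCharacter X (S.FF j) := by
  have := SporadicRecognition.SuzOrder.finiteSuz
  have h1 : ∀ c, IsGeneralizedCharacter X (S.U c j) := fun c => H651.isGeneralizedCharacter_comp_hom S.φ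
    (Virt.comb (slp mass rfl hom ops virt_seeds TAB.Sz.ix ops_chk) (ntd c [] j))
  exact isGeneralizedCharacter_add (isGeneralizedCharacter_add
    (isGeneralizedCharacter_mul (gen_prj S.cu S.gL) (h1 _)) (isGeneralizedCharacter_mul (gen_prj S.cu S.gP) (h1 _)))
    (isGeneralizedCharacter_mul (gen_prj S.cu (gen_ext_two (gen_prj S.cu S.gL))) (h1 _))

theorem inv_FF (j : ℕ) : S.Inv (S.FF j) := ⟨gen_classFunction (S.gen_FF j), S.FF_δ j⟩

/-- the integral functions -/
noncomputable def ff (j : ℕ) (x : X) : ℤ := g3 (vF j (td.ty (S.φ x))) (S.key x).choose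

theorem ff_eq {j : ℕ} (hj : j < 36) (x : X) : (S.ff j x : ℂ) = S.FF j x :=
  ((S.key x).choose_spec.2 _ _ (S.inv_FF j) (S.val_FF hj (td.lt _))).symm

theorem ff_val {j : ℕ} (hj : j < 36) : S.ff j 1 = g3 (vF j 0) 0 ∧ S.ff j S.z = g3 (vF j 0) 1 ∧
    S.ff j (S.z * S.z) = g3 (vF j 0) 2 := by
  have h := S.val_FF hj (t := 0) (by omega)
  rw [S.R0, Val, mul_one, ← S.ff_eq hj, ← S.ff_eq hj, ← S.ff_eq hj, Int.cast_inj, Int.cast_inj, Int.cast_inj] at h
  exact h

omit [Finite X] in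
include S in
theorem card_X : Nat.card X = 3 * dat.N := by
  rw [← S.φ.ker.card_mul_index, S.card, Subgroup.index_ker, MonoidHom.range_eq_top.2 S.surj, Subgroup.card_top, mass.1]

theorem gram [Fintype X] {i j : ℕ} (hi : i < 36) (hj : j < 36) : classInner (fun x => (S.ff i x : ℂ))
    (fun x => (S.ff j x : ℂ)) = ((2 * gam mW (fun _ => 0) i j : ℤ) : ℂ) := by
  have := SporadicRecognition.SuzOrder.finiteSuz
  have := Fintype.ofFinite Suz
  have h1 : ∀ x, av S.z (fun x => S.FF i x * S.FF j x) x = sm (mulV (vF i (td.ty (S.φ x))) (vF j (td.ty (S.φ x)))) :=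
    fun x => by
      obtain ⟨k, -, h⟩ := S.key x
      have h2 := ((S.val_FF hi (td.lt (S.φ x))).mul (S.val_FF hj (td.lt (S.φ x)))).av
      refine (h _ (_, _, _) ((S.inv_FF i).mul (S.inv_FF j)).av ⟨h2, (S.cu.av_z _ _).trans h2,
        (S.cu.av_z _ _).trans ((S.cu.av_z _ _).trans h2)⟩).trans ?_
      rw [g3, ite_self, ite_self]
      rfl
  have h2 := inner_of_ipF mass (f := fun t => sm (mulV (vF i t) (vF j t))) (g := fun _ => 1)
    (z := 6 * gam mW (fun _ => 0) i j) (by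
      rw [← gram_ok i hi j hj, ip, ip, ip, ipL_eq, ipL_eq, ipL_eq, ← Finset.sum_add_distrib, ← Finset.sum_add_distrib]
      exact Finset.sum_congr rfl fun t _ => by rw [← mul_add, ← mul_add, mul_one]; rfl)
  have h3 := (H829.GowDesc.classInner_comp_surj S.φ S.surj _ _).trans h2
  have h4 : ∀ F : X → ℂ, ∑ x, F (S.z * x) = ∑ x, F x := fun F => Equiv.sum_comp (Equiv.mulLeft S.z) F
  simp only [classInner_def, Function.comp_apply, ← h1, Int.cast_one, map_one, mul_one, av,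
    Finset.sum_add_distrib] at h3
  rw [h4 fun x => S.FF i (S.z * x) * S.FF j (S.z * x), h4 fun x => S.FF i x * S.FF j x] at h3
  simp only [classInner_def, map_intCast]
  simp only [S.ff_eq hi, S.ff_eq hj]
  push_cast at h3 ⊢
  linear_combination h3 / 3

/-- **sixteen characters of odd degree** -/
theorem count {ω : ℂ} (hω : ω ^ 2 + ω + 1 = 0) : Nat.card {χ : X → ℂ // OI X χ ∧ χ S.z = ω * χ 1} = 16 := by
  classical
  have := Fintype.ofFinite X
  have := SporadicRecognition.SuzOrder.finiteSuz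
  rw [← cnt_ok]
  refine S7.card_cov (Subgroup.mem_center_iff.2 fun g => (S.cu.cen g).symm)
    (by rw [pow_three, ← mul_one (S.z * S.z), mul_assoc, S.cu.cube]) hω
    ⟨fun _ _ => le_rfl, fun _ _ h => absurd rfl h, fun _ h => absurd h (Nat.not_lt_zero _),
      fun _ h => absurd h (Nat.not_lt_zero _)⟩ (fun j _ => by unfold mW; split_ifs <;> omega) S.ff
    (fun j hj => funext (S.ff_eq hj) ▸ S.gen_FF j) (fun j hj x => ?_) (fun i hi j hj => S.gram hi hj)
    (fun j hj i hi _ h1 h2 _ => Or.inr ?_) _ (g := fun x => if S.φ x = 1 then dat.N else 0)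
    (fun x => by rw [map_mul, S.φz, one_mul]) ?_ fun x hx => ?_
  · have h := S.av_FF j x
    rw [av, ← S.ff_eq hj, ← S.ff_eq hj, ← S.ff_eq hj] at h
    exact_mod_cast h
  · rw [(S.ff_val hj).1, (S.ff_val (hi.trans hj)).1, S.card_X]
    exact sep_ok j hj i hi h1 h2
  · rw [Finset.sum_congr rfl fun j hj => by rw [(S.ff_val (mem_range.1 hj)).1], reg_ok 0 (by omega) 0 (by omega),
      map_one, S.card_X]
    simp only [if_true]
    push_cast
    ring
  · by_cases h : S.φ x = 1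
    · rw [if_pos h]
      rcases S.ker x h with e | rfl | rfl
      · exact absurd e hx
      · rw [Finset.sum_congr rfl fun j hj => by rw [(S.ff_val (mem_range.1 hj)).2.1], reg_ok 0 (by omega) 1 (by omega)]
        rfl
      · rw [Finset.sum_congr rfl fun j hj => by rw [(S.ff_val (mem_range.1 hj)).2.2], reg_ok 0 (by omega) 2 (by omega)]
        rfl
    · rw [if_neg h, neg_zero]
      exact (reg_ok _ (td.lt _) _ (S.key x).choose_spec.1).trans
        (if_neg (mt (TD.ty_eq_zero mass (by decide) rfl (by decide) _).1 h))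

end Sc

end Cfsg.Agent.MK.S4.Z
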