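import Cfsg.Agent.TAB.F22.Mx
import Cfsg.Agent.TAB.Suz.Main
import Cfsg.Agent.KFacts.SuzRho
import Cfsg.Agent.H123.Cls.SuzOre

/-!
# MK, `3.Suz` : the sixfold cover in 24 dimensions, data (helper88)

The letters `0, ..., 6` are the generators, `7` is the scalar of order six, `8` is `-1`, `9` is the semilinear map.
-/

set_option autoImplicit false
set_option maxRecDepth 100000
set_option Elab.async false

namespace Cfsg.Agent.MK.S4.Z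

open Cfsg.Agent.TAB.F22 Cfsg.Agent.TAB.Eng Cfsg.Agent.TAB.Sz

local notation "A" => Nat.add
local notation "M" => Nat.mul

/-- the letter 0 -/
def m0 : List Row := [
  (([(0, 1)], 0), [], 0), (([(1, 1)], 0), [], 0), (([(2, 1)], 0), [], 0), (([], 2), [(3, 1)], 0), (([(4, 1)], 0), [],
  0), (([], 2), [(5, 1)], 0), (([(6, 1)], 0), [], 0), (([(7, 1)], 0), [], 0), (([], 2), [(8, 1)], 0), (([(9, 1)], 0),
  [], 0), (([(10, 1)], 0), [], 0), (([], 2), [(11, 1)], 0), (([], 2), [(12, 1)], 0), (([(13, 1)], 0), [], 0), (([(14,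
  1)], 0), [], 0), (([(15, 1)], 0), [], 0), (([(16, 1)], 0), [], 0), (([(17, 1)], 0), [], 0), (([(18, 1)], 0), [], 0),
  (([], 2), [(19, 1)], 0), (([(20, 1)], 0), [], 0), (([(21, 1)], 0), [], 0), (([], 2), [(22, 1)], 0), (([], 2), [(23,
  1)], 0)]

/-- the function of the letter 0 -/
def f0 (C : ℕ) : Fn (List (ℕ × ℕ)) 24 := fun (
    x0 x1 x2 x3 x4 x5 x6 x7 x8 x9 x10 x11 x12 x13 x14 x15 x16 x17 x18 x19 x20 x21 x22 x23 : ℕ) => ([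
  ((A (M 1 x0) (M 0 C)), (M 0 C)), ((A (M 1 x1) (M 0 C)), (M 0 C)), ((A (M 1 x2) (M 0 C)), (M 0 C)), ((M 2 C), (A (M 1
  x3) (M 0 C))), ((A (M 1 x4) (M 0 C)), (M 0 C)), ((M 2 C), (A (M 1 x5) (M 0 C))), ((A (M 1 x6) (M 0 C)), (M 0 C)),
  ((A (M 1 x7) (M 0 C)), (M 0 C)), ((M 2 C), (A (M 1 x8) (M 0 C))), ((A (M 1 x9) (M 0 C)), (M 0 C)), ((A (M 1 x10) (M
  0 C)), (M 0 C)), ((M 2 C), (A (M 1 x11) (M 0 C))), ((M 2 C), (A (M 1 x12) (M 0 C))), ((A (M 1 x13) (M 0 C)), (M 0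
  C)), ((A (M 1 x14) (M 0 C)), (M 0 C)), ((A (M 1 x15) (M 0 C)), (M 0 C)), ((A (M 1 x16) (M 0 C)), (M 0 C)), ((A (M 1
  x17) (M 0 C)), (M 0 C)), ((A (M 1 x18) (M 0 C)), (M 0 C)), ((M 2 C), (A (M 1 x19) (M 0 C))), ((A (M 1 x20) (M 0 C)),
  (M 0 C)), ((A (M 1 x21) (M 0 C)), (M 0 C)), ((M 2 C), (A (M 1 x22) (M 0 C))), ((M 2 C), (A (M 1 x23) (M 0 C)))] : List (ℕ × ℕ))

theorem f0_eq : f0 = fnOf 24 m0 := rfl

/-- the letter 1 -/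
def m1 : List Row := [
  (([(0, 2), (11, 1), (15, 1), (18, 1), (22, 1)], 4), [(10, 1), (13, 1), (17, 2), (19, 1), (23, 1)], 0), (([(1, 2),
  (8, 2), (11, 1), (13, 1), (22, 1), (23, 1)], 0), [(10, 1), (15, 1), (18, 1), (19, 1)], 0), (([(2, 2), (5, 2), (18,
  1), (19, 1), (22, 1), (23, 1)], 0), [(10, 1), (11, 1), (13, 1), (15, 1)], 0), (([(3, 2), (13, 1), (15, 1), (18, 1),
  (23, 1)], 4), [(6, 2), (10, 1), (11, 1), (19, 1), (22, 1)], 0), (([(4, 2), (10, 1), (13, 1), (18, 1), (22, 1)], 4),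
  [(11, 1), (12, 2), (15, 1), (19, 1), (23, 1)], 0), (([(2, 2), (5, 2), (10, 1), (11, 1), (13, 1), (15, 1)], 0), [(18,
  1), (19, 1), (22, 1), (23, 1)], 0), (([(6, 2), (13, 1), (15, 1), (18, 1), (23, 1)], 4), [(3, 2), (10, 1), (11, 1),
  (19, 1), (22, 1)], 0), (([(7, 2), (10, 1), (11, 1), (18, 1), (23, 1)], 4), [(13, 1), (15, 1), (19, 1), (20, 2), (22,
  1)], 0), (([(1, 2), (8, 2), (10, 1), (15, 1), (18, 1), (19, 1)], 0), [(11, 1), (13, 1), (22, 1), (23, 1)], 0),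
  (([(9, 2)], 12), [(10, 1), (11, 1), (13, 1), (15, 1), (18, 1), (19, 1), (21, 2), (22, 1), (23, 1)], 0), (([(4, 1),
  (5, 1), (7, 1), (8, 1), (12, 1), (14, 1), (16, 1), (20, 1)], 4), [(0, 1), (1, 1), (2, 1), (3, 1), (6, 1), (9, 1),
  (17, 1), (21, 1)], 0), (([(0, 1), (1, 1), (5, 1), (7, 1), (17, 1), (20, 1)], 8), [(2, 1), (3, 1), (4, 1), (6, 1),
  (8, 1), (9, 1), (12, 1), (14, 1), (16, 1), (21, 1)], 0), (([(10, 1), (12, 2), (13, 1), (18, 1), (22, 1)], 4), [(4,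
  2), (11, 1), (15, 1), (19, 1), (23, 1)], 0), (([(1, 1), (3, 1), (4, 1), (5, 1), (6, 1), (12, 1)], 8), [(0, 1), (2,
  1), (7, 1), (8, 1), (9, 1), (14, 1), (16, 1), (17, 1), (20, 1), (21, 1)], 0), (([(10, 1), (14, 2), (15, 1), (22, 1),
  (23, 1)], 4), [(11, 1), (13, 1), (16, 2), (18, 1), (19, 1)], 0), (([(0, 1), (3, 1), (5, 1), (6, 1), (8, 1), (14, 1),
  (16, 1), (17, 1)], 4), [(1, 1), (2, 1), (4, 1), (7, 1), (9, 1), (12, 1), (20, 1), (21, 1)], 0), (([(10, 1), (15, 1),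
  (16, 2), (22, 1), (23, 1)], 4), [(11, 1), (13, 1), (14, 2), (18, 1), (19, 1)], 0), (([(11, 1), (15, 1), (17, 2),
  (18, 1), (22, 1)], 4), [(0, 2), (10, 1), (13, 1), (19, 1), (23, 1)], 0), (([(0, 1), (2, 1), (3, 1), (4, 1), (6, 1),
  (7, 1), (8, 1), (12, 1), (17, 1), (20, 1)], 0), [(1, 1), (5, 1), (9, 1), (14, 1), (16, 1), (21, 1)], 0), (([(2, 1),
  (8, 1)], 16), [(0, 1), (1, 1), (3, 1), (4, 1), (5, 1), (6, 1), (7, 1), (9, 1), (12, 1), (14, 1), (16, 1), (17, 1),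
  (20, 1), (21, 1)], 0), (([(10, 1), (11, 1), (18, 1), (20, 2), (23, 1)], 4), [(7, 2), (13, 1), (15, 1), (19, 1), (22,
  1)], 0), (([(21, 2)], 12), [(9, 2), (10, 1), (11, 1), (13, 1), (15, 1), (18, 1), (19, 1), (22, 1), (23, 1)], 0),
  (([(0, 1), (1, 1), (2, 1), (4, 1), (12, 1), (14, 1), (16, 1), (17, 1)], 4), [(3, 1), (5, 1), (6, 1), (7, 1), (8, 1),
  (9, 1), (20, 1), (21, 1)], 0), (([(1, 1), (2, 1), (3, 1), (6, 1), (7, 1), (14, 1), (16, 1), (20, 1)], 4), [(0, 1),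
  (4, 1), (5, 1), (8, 1), (9, 1), (12, 1), (17, 1), (21, 1)], 0)]

/-- the function of the letter 1 -/
def f1 (C : ℕ) : Fn (List (ℕ × ℕ)) 24 := fun (
    x0 x1 x2 x3 x4 x5 x6 x7 x8 x9 x10 x11 x12 x13 x14 x15 x16 x17 x18 x19 x20 x21 x22 x23 : ℕ) => ([
  ((A (M 2 x0) (A (M 1 x11) (A (M 1 x15) (A (M 1 x18) (A (M 1 x22) (M 4 C)))))), (A (M 1 x10) (A (M 1 x13) (A (M 2
  x17) (A (M 1 x19) (A (M 1 x23) (M 0 C))))))), ((A (M 2 x1) (A (M 2 x8) (A (M 1 x11) (A (M 1 x13) (A (M 1 x22) (A (M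
  1 x23) (M 0 C))))))), (A (M 1 x10) (A (M 1 x15) (A (M 1 x18) (A (M 1 x19) (M 0 C)))))), ((A (M 2 x2) (A (M 2 x5) (A
  (M 1 x18) (A (M 1 x19) (A (M 1 x22) (A (M 1 x23) (M 0 C))))))), (A (M 1 x10) (A (M 1 x11) (A (M 1 x13) (A (M 1 x15)
  (M 0 C)))))), ((A (M 2 x3) (A (M 1 x13) (A (M 1 x15) (A (M 1 x18) (A (M 1 x23) (M 4 C)))))), (A (M 2 x6) (A (M 1
  x10) (A (M 1 x11) (A (M 1 x19) (A (M 1 x22) (M 0 C))))))), ((A (M 2 x4) (A (M 1 x10) (A (M 1 x13) (A (M 1 x18) (A (M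
  1 x22) (M 4 C)))))), (A (M 1 x11) (A (M 2 x12) (A (M 1 x15) (A (M 1 x19) (A (M 1 x23) (M 0 C))))))), ((A (M 2 x2) (A
  (M 2 x5) (A (M 1 x10) (A (M 1 x11) (A (M 1 x13) (A (M 1 x15) (M 0 C))))))), (A (M 1 x18) (A (M 1 x19) (A (M 1 x22)
  (A (M 1 x23) (M 0 C)))))), ((A (M 2 x6) (A (M 1 x13) (A (M 1 x15) (A (M 1 x18) (A (M 1 x23) (M 4 C)))))), (A (M 2
  x3) (A (M 1 x10) (A (M 1 x11) (A (M 1 x19) (A (M 1 x22) (M 0 C))))))), ((A (M 2 x7) (A (M 1 x10) (A (M 1 x11) (A (M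
  1 x18) (A (M 1 x23) (M 4 C)))))), (A (M 1 x13) (A (M 1 x15) (A (M 1 x19) (A (M 2 x20) (A (M 1 x22) (M 0 C))))))),
  ((A (M 2 x1) (A (M 2 x8) (A (M 1 x10) (A (M 1 x15) (A (M 1 x18) (A (M 1 x19) (M 0 C))))))), (A (M 1 x11) (A (M 1
  x13) (A (M 1 x22) (A (M 1 x23) (M 0 C)))))), ((A (M 2 x9) (M 12 C)), (A (M 1 x10) (A (M 1 x11) (A (M 1 x13) (A (M 1
  x15) (A (M 1 x18) (A (M 1 x19) (A (M 2 x21) (A (M 1 x22) (A (M 1 x23) (M 0 C))))))))))), ((A (M 1 x4) (A (M 1 x5) (A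
  (M 1 x7) (A (M 1 x8) (A (M 1 x12) (A (M 1 x14) (A (M 1 x16) (A (M 1 x20) (M 4 C))))))))), (A (M 1 x0) (A (M 1 x1) (A
  (M 1 x2) (A (M 1 x3) (A (M 1 x6) (A (M 1 x9) (A (M 1 x17) (A (M 1 x21) (M 0 C)))))))))), ((A (M 1 x0) (A (M 1 x1) (A
  (M 1 x5) (A (M 1 x7) (A (M 1 x17) (A (M 1 x20) (M 8 C))))))), (A (M 1 x2) (A (M 1 x3) (A (M 1 x4) (A (M 1 x6) (A (M
  1 x8) (A (M 1 x9) (A (M 1 x12) (A (M 1 x14) (A (M 1 x16) (A (M 1 x21) (M 0 C)))))))))))), ((A (M 1 x10) (A (M 2 x12)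
  (A (M 1 x13) (A (M 1 x18) (A (M 1 x22) (M 4 C)))))), (A (M 2 x4) (A (M 1 x11) (A (M 1 x15) (A (M 1 x19) (A (M 1 x23)
  (M 0 C))))))), ((A (M 1 x1) (A (M 1 x3) (A (M 1 x4) (A (M 1 x5) (A (M 1 x6) (A (M 1 x12) (M 8 C))))))), (A (M 1 x0)
  (A (M 1 x2) (A (M 1 x7) (A (M 1 x8) (A (M 1 x9) (A (M 1 x14) (A (M 1 x16) (A (M 1 x17) (A (M 1 x20) (A (M 1 x21) (M
  0 C)))))))))))), ((A (M 1 x10) (A (M 2 x14) (A (M 1 x15) (A (M 1 x22) (A (M 1 x23) (M 4 C)))))), (A (M 1 x11) (A (M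
  1 x13) (A (M 2 x16) (A (M 1 x18) (A (M 1 x19) (M 0 C))))))), ((A (M 1 x0) (A (M 1 x3) (A (M 1 x5) (A (M 1 x6) (A (M
  1 x8) (A (M 1 x14) (A (M 1 x16) (A (M 1 x17) (M 4 C))))))))), (A (M 1 x1) (A (M 1 x2) (A (M 1 x4) (A (M 1 x7) (A (M
  1 x9) (A (M 1 x12) (A (M 1 x20) (A (M 1 x21) (M 0 C)))))))))), ((A (M 1 x10) (A (M 1 x15) (A (M 2 x16) (A (M 1 x22)
  (A (M 1 x23) (M 4 C)))))), (A (M 1 x11) (A (M 1 x13) (A (M 2 x14) (A (M 1 x18) (A (M 1 x19) (M 0 C))))))), ((A (M 1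
  x11) (A (M 1 x15) (A (M 2 x17) (A (M 1 x18) (A (M 1 x22) (M 4 C)))))), (A (M 2 x0) (A (M 1 x10) (A (M 1 x13) (A (M 1
  x19) (A (M 1 x23) (M 0 C))))))), ((A (M 1 x0) (A (M 1 x2) (A (M 1 x3) (A (M 1 x4) (A (M 1 x6) (A (M 1 x7) (A (M 1
  x8) (A (M 1 x12) (A (M 1 x17) (A (M 1 x20) (M 0 C))))))))))), (A (M 1 x1) (A (M 1 x5) (A (M 1 x9) (A (M 1 x14) (A (M
  1 x16) (A (M 1 x21) (M 0 C)))))))), ((A (M 1 x2) (A (M 1 x8) (M 16 C))), (A (M 1 x0) (A (M 1 x1) (A (M 1 x3) (A (M 1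
  x4) (A (M 1 x5) (A (M 1 x6) (A (M 1 x7) (A (M 1 x9) (A (M 1 x12) (A (M 1 x14) (A (M 1 x16) (A (M 1 x17) (A (M 1 x20)
  (A (M 1 x21) (M 0 C)))))))))))))))), ((A (M 1 x10) (A (M 1 x11) (A (M 1 x18) (A (M 2 x20) (A (M 1 x23) (M 4 C)))))),
  (A (M 2 x7) (A (M 1 x13) (A (M 1 x15) (A (M 1 x19) (A (M 1 x22) (M 0 C))))))), ((A (M 2 x21) (M 12 C)), (A (M 2 x9)
  (A (M 1 x10) (A (M 1 x11) (A (M 1 x13) (A (M 1 x15) (A (M 1 x18) (A (M 1 x19) (A (M 1 x22) (A (M 1 x23) (M 0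
  C))))))))))), ((A (M 1 x0) (A (M 1 x1) (A (M 1 x2) (A (M 1 x4) (A (M 1 x12) (A (M 1 x14) (A (M 1 x16) (A (M 1 x17)
  (M 4 C))))))))), (A (M 1 x3) (A (M 1 x5) (A (M 1 x6) (A (M 1 x7) (A (M 1 x8) (A (M 1 x9) (A (M 1 x20) (A (M 1 x21)
  (M 0 C)))))))))), ((A (M 1 x1) (A (M 1 x2) (A (M 1 x3) (A (M 1 x6) (A (M 1 x7) (A (M 1 x14) (A (M 1 x16) (A (M 1
  x20) (M 4 C))))))))), (A (M 1 x0) (A (M 1 x4) (A (M 1 x5) (A (M 1 x8) (A (M 1 x9) (A (M 1 x12) (A (M 1 x17) (A (M 1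
  x21) (M 0 C))))))))))] : List (ℕ × ℕ))

theorem f1_eq : f1 = fnOf 24 m1 := rfl

/-- the letter 2 -/
def m2 : List Row := [
  (([], 2), [(18, 1)], 0), (([], 2), [(7, 1)], 0), (([], 2), [(16, 1)], 0), (([(3, 1)], 0), [], 0), (([], 2), [(17,
  1)], 0), (([(5, 1)], 0), [], 0), (([], 2), [(21, 1)], 0), (([], 2), [(1, 1)], 0), (([(8, 1)], 0), [], 0), (([(10,
  1)], 0), [], 0), (([(9, 1)], 0), [], 0), (([(11, 1)], 0), [], 0), (([(12, 1)], 0), [], 0), (([(14, 1)], 0), [], 0),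
  (([(13, 1)], 0), [], 0), (([(20, 1)], 0), [], 0), (([], 2), [(2, 1)], 0), (([], 2), [(4, 1)], 0), (([], 2), [(0,
  1)], 0), (([(19, 1)], 0), [], 0), (([(15, 1)], 0), [], 0), (([], 2), [(6, 1)], 0), (([(22, 1)], 0), [], 0), (([(23,
  1)], 0), [], 0)]

/-- the function of the letter 2 -/
def f2 (C : ℕ) : Fn (List (ℕ × ℕ)) 24 := fun (
    x0 x1 x2 x3 x4 x5 x6 x7 x8 x9 x10 x11 x12 x13 x14 x15 x16 x17 x18 x19 x20 x21 x22 x23 : ℕ) => ([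
  ((M 2 C), (A (M 1 x18) (M 0 C))), ((M 2 C), (A (M 1 x7) (M 0 C))), ((M 2 C), (A (M 1 x16) (M 0 C))), ((A (M 1 x3) (M
  0 C)), (M 0 C)), ((M 2 C), (A (M 1 x17) (M 0 C))), ((A (M 1 x5) (M 0 C)), (M 0 C)), ((M 2 C), (A (M 1 x21) (M 0
  C))), ((M 2 C), (A (M 1 x1) (M 0 C))), ((A (M 1 x8) (M 0 C)), (M 0 C)), ((A (M 1 x10) (M 0 C)), (M 0 C)), ((A (M 1
  x9) (M 0 C)), (M 0 C)), ((A (M 1 x11) (M 0 C)), (M 0 C)), ((A (M 1 x12) (M 0 C)), (M 0 C)), ((A (M 1 x14) (M 0 C)),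
  (M 0 C)), ((A (M 1 x13) (M 0 C)), (M 0 C)), ((A (M 1 x20) (M 0 C)), (M 0 C)), ((M 2 C), (A (M 1 x2) (M 0 C))), ((M 2
  C), (A (M 1 x4) (M 0 C))), ((M 2 C), (A (M 1 x0) (M 0 C))), ((A (M 1 x19) (M 0 C)), (M 0 C)), ((A (M 1 x15) (M 0
  C)), (M 0 C)), ((M 2 C), (A (M 1 x6) (M 0 C))), ((A (M 1 x22) (M 0 C)), (M 0 C)), ((A (M 1 x23) (M 0 C)), (M 0 C))] : List (ℕ × ℕ))

theorem f2_eq : f2 = fnOf 24 m2 := rfl

/-- the letter 3 -/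
def m3 : List Row := [
  (([(14, 1)], 0), [], 0), (([(2, 1)], 0), [], 0), (([], 2), [(1, 1)], 0), (([], 2), [(12, 1)], 0), (([(6, 1)], 0),
  [], 0), (([], 2), [(8, 1)], 0), (([], 2), [(4, 1)], 0), (([], 2), [(21, 1)], 0), (([(5, 1)], 0), [], 0), (([(20,
  1)], 0), [], 0), (([(13, 1)], 0), [], 0), (([(22, 1)], 0), [], 0), (([(3, 1)], 0), [], 0), (([], 2), [(10, 1)], 0),
  (([], 2), [(0, 1)], 0), (([], 2), [(18, 1)], 0), (([], 2), [(17, 1)], 0), (([(16, 1)], 0), [], 0), (([(15, 1)], 0),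
  [], 0), (([], 2), [(23, 1)], 0), (([], 2), [(9, 1)], 0), (([(7, 1)], 0), [], 0), (([], 2), [(11, 1)], 0), (([(19,
  1)], 0), [], 0)]

/-- the function of the letter 3 -/
def f3 (C : ℕ) : Fn (List (ℕ × ℕ)) 24 := fun (
    x0 x1 x2 x3 x4 x5 x6 x7 x8 x9 x10 x11 x12 x13 x14 x15 x16 x17 x18 x19 x20 x21 x22 x23 : ℕ) => ([
  ((A (M 1 x14) (M 0 C)), (M 0 C)), ((A (M 1 x2) (M 0 C)), (M 0 C)), ((M 2 C), (A (M 1 x1) (M 0 C))), ((M 2 C), (A (M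
  1 x12) (M 0 C))), ((A (M 1 x6) (M 0 C)), (M 0 C)), ((M 2 C), (A (M 1 x8) (M 0 C))), ((M 2 C), (A (M 1 x4) (M 0 C))),
  ((M 2 C), (A (M 1 x21) (M 0 C))), ((A (M 1 x5) (M 0 C)), (M 0 C)), ((A (M 1 x20) (M 0 C)), (M 0 C)), ((A (M 1 x13)
  (M 0 C)), (M 0 C)), ((A (M 1 x22) (M 0 C)), (M 0 C)), ((A (M 1 x3) (M 0 C)), (M 0 C)), ((M 2 C), (A (M 1 x10) (M 0
  C))), ((M 2 C), (A (M 1 x0) (M 0 C))), ((M 2 C), (A (M 1 x18) (M 0 C))), ((M 2 C), (A (M 1 x17) (M 0 C))), ((A (M 1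
  x16) (M 0 C)), (M 0 C)), ((A (M 1 x15) (M 0 C)), (M 0 C)), ((M 2 C), (A (M 1 x23) (M 0 C))), ((M 2 C), (A (M 1 x9)
  (M 0 C))), ((A (M 1 x7) (M 0 C)), (M 0 C)), ((M 2 C), (A (M 1 x11) (M 0 C))), ((A (M 1 x19) (M 0 C)), (M 0 C))] : List (ℕ × ℕ))

theorem f3_eq : f3 = fnOf 24 m3 := rfl

/-- the letter 4 -/
def m4 : List Row := [
  (([(20, 1)], 4), [(13, 1), (14, 1), (15, 1)], 0), (([(6, 1), (16, 1), (21, 1)], 0), [(2, 1)], 0), (([(1, 1), (4, 1),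
  (17, 1)], 0), [(7, 1)], 0), (([(5, 1), (11, 1), (12, 1)], 0), [(19, 1)], 0), (([(21, 1)], 4), [(2, 1), (6, 1), (16,
  1)], 0), (([(8, 1), (22, 1)], 2), [(3, 1), (23, 1)], 0), (([(4, 1)], 4), [(1, 1), (7, 1), (17, 1)], 0), (([(2, 1),
  (6, 1), (21, 1)], 0), [(16, 1)], 0), (([(12, 1)], 4), [(5, 1), (11, 1), (19, 1)], 0), (([(13, 1)], 4), [(14, 1),
  (15, 1), (20, 1)], 0), (([(14, 1)], 4), [(13, 1), (15, 1), (20, 1)], 0), (([(8, 1), (23, 1)], 2), [(3, 1), (22, 1)],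
  0), (([(22, 1), (23, 1)], 2), [(3, 1), (8, 1)], 0), (([(0, 1), (10, 1)], 2), [(9, 1), (18, 1)], 0), (([(0, 1), (9,
  1)], 2), [(10, 1), (18, 1)], 0), (([(0, 1), (9, 1), (10, 1), (18, 1)], 0), [], 2), (([(4, 1), (7, 1), (17, 1)], 0),
  [(1, 1)], 0), (([(6, 1)], 4), [(2, 1), (16, 1), (21, 1)], 0), (([(13, 1), (14, 1), (20, 1)], 0), [(15, 1)], 0),
  (([(3, 1), (8, 1), (22, 1), (23, 1)], 0), [], 2), (([(9, 1), (10, 1)], 2), [(0, 1), (18, 1)], 0), (([(17, 1)], 4),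
  [(1, 1), (4, 1), (7, 1)], 0), (([(11, 1)], 4), [(5, 1), (12, 1), (19, 1)], 0), (([(5, 1)], 4), [(11, 1), (12, 1),
  (19, 1)], 0)]

/-- the function of the letter 4 -/
def f4 (C : ℕ) : Fn (List (ℕ × ℕ)) 24 := fun (
    x0 x1 x2 x3 x4 x5 x6 x7 x8 x9 x10 x11 x12 x13 x14 x15 x16 x17 x18 x19 x20 x21 x22 x23 : ℕ) => ([
  ((A (M 1 x20) (M 4 C)), (A (M 1 x13) (A (M 1 x14) (A (M 1 x15) (M 0 C))))), ((A (M 1 x6) (A (M 1 x16) (A (M 1 x21)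
  (M 0 C)))), (A (M 1 x2) (M 0 C))), ((A (M 1 x1) (A (M 1 x4) (A (M 1 x17) (M 0 C)))), (A (M 1 x7) (M 0 C))), ((A (M 1
  x5) (A (M 1 x11) (A (M 1 x12) (M 0 C)))), (A (M 1 x19) (M 0 C))), ((A (M 1 x21) (M 4 C)), (A (M 1 x2) (A (M 1 x6) (A
  (M 1 x16) (M 0 C))))), ((A (M 1 x8) (A (M 1 x22) (M 2 C))), (A (M 1 x3) (A (M 1 x23) (M 0 C)))), ((A (M 1 x4) (M 4
  C)), (A (M 1 x1) (A (M 1 x7) (A (M 1 x17) (M 0 C))))), ((A (M 1 x2) (A (M 1 x6) (A (M 1 x21) (M 0 C)))), (A (M 1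
  x16) (M 0 C))), ((A (M 1 x12) (M 4 C)), (A (M 1 x5) (A (M 1 x11) (A (M 1 x19) (M 0 C))))), ((A (M 1 x13) (M 4 C)),
  (A (M 1 x14) (A (M 1 x15) (A (M 1 x20) (M 0 C))))), ((A (M 1 x14) (M 4 C)), (A (M 1 x13) (A (M 1 x15) (A (M 1 x20)
  (M 0 C))))), ((A (M 1 x8) (A (M 1 x23) (M 2 C))), (A (M 1 x3) (A (M 1 x22) (M 0 C)))), ((A (M 1 x22) (A (M 1 x23) (M
  2 C))), (A (M 1 x3) (A (M 1 x8) (M 0 C)))), ((A (M 1 x0) (A (M 1 x10) (M 2 C))), (A (M 1 x9) (A (M 1 x18) (M 0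
  C)))), ((A (M 1 x0) (A (M 1 x9) (M 2 C))), (A (M 1 x10) (A (M 1 x18) (M 0 C)))), ((A (M 1 x0) (A (M 1 x9) (A (M 1
  x10) (A (M 1 x18) (M 0 C))))), (M 2 C)), ((A (M 1 x4) (A (M 1 x7) (A (M 1 x17) (M 0 C)))), (A (M 1 x1) (M 0 C))),
  ((A (M 1 x6) (M 4 C)), (A (M 1 x2) (A (M 1 x16) (A (M 1 x21) (M 0 C))))), ((A (M 1 x13) (A (M 1 x14) (A (M 1 x20) (M
  0 C)))), (A (M 1 x15) (M 0 C))), ((A (M 1 x3) (A (M 1 x8) (A (M 1 x22) (A (M 1 x23) (M 0 C))))), (M 2 C)), ((A (M 1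
  x9) (A (M 1 x10) (M 2 C))), (A (M 1 x0) (A (M 1 x18) (M 0 C)))), ((A (M 1 x17) (M 4 C)), (A (M 1 x1) (A (M 1 x4) (A
  (M 1 x7) (M 0 C))))), ((A (M 1 x11) (M 4 C)), (A (M 1 x5) (A (M 1 x12) (A (M 1 x19) (M 0 C))))), ((A (M 1 x5) (M 4
  C)), (A (M 1 x11) (A (M 1 x12) (A (M 1 x19) (M 0 C)))))] : List (ℕ × ℕ))

theorem f4_eq : f4 = fnOf 24 m4 := rfl

/-- the letter 5 -/
def m5 : List Row := [
  (([(2, 1)], 0), [], 0), (([], 2), [(14, 1)], 0), (([(0, 1)], 0), [], 0), (([(3, 1)], 0), [], 0), (([(20, 1)], 0),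
  [], 0), (([(5, 1)], 0), [], 0), (([], 2), [(9, 1)], 0), (([(13, 1)], 0), [], 0), (([(8, 1)], 0), [], 0), (([], 2),
  [(6, 1)], 0), (([(21, 1)], 0), [], 0), (([(11, 1)], 0), [], 0), (([(12, 1)], 0), [], 0), (([(7, 1)], 0), [], 0),
  (([], 2), [(1, 1)], 0), (([], 2), [(17, 1)], 0), (([(18, 1)], 0), [], 0), (([], 2), [(15, 1)], 0), (([(16, 1)], 0),
  [], 0), (([(19, 1)], 0), [], 0), (([(4, 1)], 0), [], 0), (([(10, 1)], 0), [], 0), (([(22, 1)], 0), [], 0), (([(23,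
  1)], 0), [], 0)]

/-- the function of the letter 5 -/
def f5 (C : ℕ) : Fn (List (ℕ × ℕ)) 24 := fun (
    x0 x1 x2 x3 x4 x5 x6 x7 x8 x9 x10 x11 x12 x13 x14 x15 x16 x17 x18 x19 x20 x21 x22 x23 : ℕ) => ([
  ((A (M 1 x2) (M 0 C)), (M 0 C)), ((M 2 C), (A (M 1 x14) (M 0 C))), ((A (M 1 x0) (M 0 C)), (M 0 C)), ((A (M 1 x3) (M
  0 C)), (M 0 C)), ((A (M 1 x20) (M 0 C)), (M 0 C)), ((A (M 1 x5) (M 0 C)), (M 0 C)), ((M 2 C), (A (M 1 x9) (M 0 C))),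
  ((A (M 1 x13) (M 0 C)), (M 0 C)), ((A (M 1 x8) (M 0 C)), (M 0 C)), ((M 2 C), (A (M 1 x6) (M 0 C))), ((A (M 1 x21) (M
  0 C)), (M 0 C)), ((A (M 1 x11) (M 0 C)), (M 0 C)), ((A (M 1 x12) (M 0 C)), (M 0 C)), ((A (M 1 x7) (M 0 C)), (M 0
  C)), ((M 2 C), (A (M 1 x1) (M 0 C))), ((M 2 C), (A (M 1 x17) (M 0 C))), ((A (M 1 x18) (M 0 C)), (M 0 C)), ((M 2 C),
  (A (M 1 x15) (M 0 C))), ((A (M 1 x16) (M 0 C)), (M 0 C)), ((A (M 1 x19) (M 0 C)), (M 0 C)), ((A (M 1 x4) (M 0 C)),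
  (M 0 C)), ((A (M 1 x10) (M 0 C)), (M 0 C)), ((A (M 1 x22) (M 0 C)), (M 0 C)), ((A (M 1 x23) (M 0 C)), (M 0 C))] : List (ℕ × ℕ))

theorem f5_eq : f5 = fnOf 24 m5 := rfl

/-- the letter 6 -/
def m6 : List Row := [
  (([], 2), [(1, 1)], 0), (([], 2), [(0, 1)], 0), (([], 2), [(14, 1)], 0), (([(3, 1)], 0), [], 0), (([], 2), [(9, 1)],
  0), (([(5, 1)], 0), [], 0), (([], 2), [(20, 1)], 0), (([], 2), [(18, 1)], 0), (([(8, 1)], 0), [], 0), (([], 2), [(4,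
  1)], 0), (([(17, 1)], 0), [], 0), (([(11, 1)], 0), [], 0), (([(12, 1)], 0), [], 0), (([(16, 1)], 0), [], 0), (([],
  2), [(2, 1)], 0), (([(21, 1)], 0), [], 0), (([(13, 1)], 0), [], 0), (([(10, 1)], 0), [], 0), (([], 2), [(7, 1)], 0),
  (([(19, 1)], 0), [], 0), (([], 2), [(6, 1)], 0), (([(15, 1)], 0), [], 0), (([(22, 1)], 0), [], 0), (([(23, 1)], 0),
  [], 0)]

/-- the function of the letter 6 -/
def f6 (C : ℕ) : Fn (List (ℕ × ℕ)) 24 := fun (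
    x0 x1 x2 x3 x4 x5 x6 x7 x8 x9 x10 x11 x12 x13 x14 x15 x16 x17 x18 x19 x20 x21 x22 x23 : ℕ) => ([
  ((M 2 C), (A (M 1 x1) (M 0 C))), ((M 2 C), (A (M 1 x0) (M 0 C))), ((M 2 C), (A (M 1 x14) (M 0 C))), ((A (M 1 x3) (M
  0 C)), (M 0 C)), ((M 2 C), (A (M 1 x9) (M 0 C))), ((A (M 1 x5) (M 0 C)), (M 0 C)), ((M 2 C), (A (M 1 x20) (M 0 C))),
  ((M 2 C), (A (M 1 x18) (M 0 C))), ((A (M 1 x8) (M 0 C)), (M 0 C)), ((M 2 C), (A (M 1 x4) (M 0 C))), ((A (M 1 x17) (M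
  0 C)), (M 0 C)), ((A (M 1 x11) (M 0 C)), (M 0 C)), ((A (M 1 x12) (M 0 C)), (M 0 C)), ((A (M 1 x16) (M 0 C)), (M 0
  C)), ((M 2 C), (A (M 1 x2) (M 0 C))), ((A (M 1 x21) (M 0 C)), (M 0 C)), ((A (M 1 x13) (M 0 C)), (M 0 C)), ((A (M 1
  x10) (M 0 C)), (M 0 C)), ((M 2 C), (A (M 1 x7) (M 0 C))), ((A (M 1 x19) (M 0 C)), (M 0 C)), ((M 2 C), (A (M 1 x6) (M
  0 C))), ((A (M 1 x15) (M 0 C)), (M 0 C)), ((A (M 1 x22) (M 0 C)), (M 0 C)), ((A (M 1 x23) (M 0 C)), (M 0 C))] : List (ℕ × ℕ))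

theorem f6_eq : f6 = fnOf 24 m6 := rfl

/-- the letter 7 -/
def m7 : List Row := [
  (([(0, 1), (4, 1), (6, 1)], 0), [(14, 1)], 0), (([(1, 1), (9, 1), (20, 1)], 0), [(2, 1)], 0), (([(1, 1), (2, 1),
  (20, 1)], 0), [(9, 1)], 0), (([(3, 1), (22, 1)], 2), [(8, 1), (19, 1)], 0), (([(4, 1), (6, 1), (14, 1)], 0), [(0,
  1)], 0), (([(5, 1), (11, 1), (23, 1)], 0), [(12, 1)], 0), (([(6, 1)], 4), [(0, 1), (4, 1), (14, 1)], 0), (([(7, 1)],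
  4), [(10, 1), (15, 1), (16, 1)], 0), (([(3, 1), (8, 1)], 2), [(19, 1), (22, 1)], 0), (([(2, 1), (9, 1), (20, 1)],
  0), [(1, 1)], 0), (([(7, 1), (10, 1), (15, 1)], 0), [(16, 1)], 0), (([(11, 1)], 4), [(5, 1), (12, 1), (23, 1)], 0),
  (([(5, 1), (11, 1), (12, 1)], 0), [(23, 1)], 0), (([(13, 1), (17, 1)], 2), [(18, 1), (21, 1)], 0), (([(0, 1), (6,
  1), (14, 1)], 0), [(4, 1)], 0), (([(7, 1), (15, 1), (16, 1)], 0), [(10, 1)], 0), (([(7, 1), (10, 1), (16, 1)], 0),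
  [(15, 1)], 0), (([(17, 1), (21, 1)], 2), [(13, 1), (18, 1)], 0), (([(13, 1), (17, 1), (18, 1), (21, 1)], 0), [], 2),
  (([(3, 1), (8, 1), (19, 1), (22, 1)], 0), [], 2), (([(20, 1)], 4), [(1, 1), (2, 1), (9, 1)], 0), (([(13, 1), (21,
  1)], 2), [(17, 1), (18, 1)], 0), (([(8, 1), (22, 1)], 2), [(3, 1), (19, 1)], 0), (([(11, 1), (12, 1), (23, 1)], 0),
  [(5, 1)], 0)]

/-- the function of the letter 7 -/
def f7 (C : ℕ) : Fn (List (ℕ × ℕ)) 24 := fun (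
    x0 x1 x2 x3 x4 x5 x6 x7 x8 x9 x10 x11 x12 x13 x14 x15 x16 x17 x18 x19 x20 x21 x22 x23 : ℕ) => ([
  ((A (M 1 x0) (A (M 1 x4) (A (M 1 x6) (M 0 C)))), (A (M 1 x14) (M 0 C))), ((A (M 1 x1) (A (M 1 x9) (A (M 1 x20) (M 0
  C)))), (A (M 1 x2) (M 0 C))), ((A (M 1 x1) (A (M 1 x2) (A (M 1 x20) (M 0 C)))), (A (M 1 x9) (M 0 C))), ((A (M 1 x3)
  (A (M 1 x22) (M 2 C))), (A (M 1 x8) (A (M 1 x19) (M 0 C)))), ((A (M 1 x4) (A (M 1 x6) (A (M 1 x14) (M 0 C)))), (A (M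
  1 x0) (M 0 C))), ((A (M 1 x5) (A (M 1 x11) (A (M 1 x23) (M 0 C)))), (A (M 1 x12) (M 0 C))), ((A (M 1 x6) (M 4 C)),
  (A (M 1 x0) (A (M 1 x4) (A (M 1 x14) (M 0 C))))), ((A (M 1 x7) (M 4 C)), (A (M 1 x10) (A (M 1 x15) (A (M 1 x16) (M 0
  C))))), ((A (M 1 x3) (A (M 1 x8) (M 2 C))), (A (M 1 x19) (A (M 1 x22) (M 0 C)))), ((A (M 1 x2) (A (M 1 x9) (A (M 1
  x20) (M 0 C)))), (A (M 1 x1) (M 0 C))), ((A (M 1 x7) (A (M 1 x10) (A (M 1 x15) (M 0 C)))), (A (M 1 x16) (M 0 C))),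
  ((A (M 1 x11) (M 4 C)), (A (M 1 x5) (A (M 1 x12) (A (M 1 x23) (M 0 C))))), ((A (M 1 x5) (A (M 1 x11) (A (M 1 x12) (M
  0 C)))), (A (M 1 x23) (M 0 C))), ((A (M 1 x13) (A (M 1 x17) (M 2 C))), (A (M 1 x18) (A (M 1 x21) (M 0 C)))), ((A (M
  1 x0) (A (M 1 x6) (A (M 1 x14) (M 0 C)))), (A (M 1 x4) (M 0 C))), ((A (M 1 x7) (A (M 1 x15) (A (M 1 x16) (M 0 C)))),
  (A (M 1 x10) (M 0 C))), ((A (M 1 x7) (A (M 1 x10) (A (M 1 x16) (M 0 C)))), (A (M 1 x15) (M 0 C))), ((A (M 1 x17) (A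
  (M 1 x21) (M 2 C))), (A (M 1 x13) (A (M 1 x18) (M 0 C)))), ((A (M 1 x13) (A (M 1 x17) (A (M 1 x18) (A (M 1 x21) (M 0
  C))))), (M 2 C)), ((A (M 1 x3) (A (M 1 x8) (A (M 1 x19) (A (M 1 x22) (M 0 C))))), (M 2 C)), ((A (M 1 x20) (M 4 C)),
  (A (M 1 x1) (A (M 1 x2) (A (M 1 x9) (M 0 C))))), ((A (M 1 x13) (A (M 1 x21) (M 2 C))), (A (M 1 x17) (A (M 1 x18) (M
  0 C)))), ((A (M 1 x8) (A (M 1 x22) (M 2 C))), (A (M 1 x3) (A (M 1 x19) (M 0 C)))), ((A (M 1 x11) (A (M 1 x12) (A (M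
  1 x23) (M 0 C)))), (A (M 1 x5) (M 0 C)))] : List (ℕ × ℕ))

theorem f7_eq : f7 = fnOf 24 m7 := rfl

/-- the letter 8 -/
def m8 : List Row := [
  (([], 2), [(0, 1)], 0), (([], 2), [(1, 1)], 0), (([], 2), [(2, 1)], 0), (([], 2), [(3, 1)], 0), (([], 2), [(4, 1)],
  0), (([], 2), [(5, 1)], 0), (([], 2), [(6, 1)], 0), (([], 2), [(7, 1)], 0), (([], 2), [(8, 1)], 0), (([], 2), [(9,
  1)], 0), (([], 2), [(10, 1)], 0), (([], 2), [(11, 1)], 0), (([], 2), [(12, 1)], 0), (([], 2), [(13, 1)], 0), (([],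
  2), [(14, 1)], 0), (([], 2), [(15, 1)], 0), (([], 2), [(16, 1)], 0), (([], 2), [(17, 1)], 0), (([], 2), [(18, 1)],
  0), (([], 2), [(19, 1)], 0), (([], 2), [(20, 1)], 0), (([], 2), [(21, 1)], 0), (([], 2), [(22, 1)], 0), (([], 2),
  [(23, 1)], 0)]

/-- the function of the letter 8 -/
def f8 (C : ℕ) : Fn (List (ℕ × ℕ)) 24 := fun (
    x0 x1 x2 x3 x4 x5 x6 x7 x8 x9 x10 x11 x12 x13 x14 x15 x16 x17 x18 x19 x20 x21 x22 x23 : ℕ) => ([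
  ((M 2 C), (A (M 1 x0) (M 0 C))), ((M 2 C), (A (M 1 x1) (M 0 C))), ((M 2 C), (A (M 1 x2) (M 0 C))), ((M 2 C), (A (M 1
  x3) (M 0 C))), ((M 2 C), (A (M 1 x4) (M 0 C))), ((M 2 C), (A (M 1 x5) (M 0 C))), ((M 2 C), (A (M 1 x6) (M 0 C))),
  ((M 2 C), (A (M 1 x7) (M 0 C))), ((M 2 C), (A (M 1 x8) (M 0 C))), ((M 2 C), (A (M 1 x9) (M 0 C))), ((M 2 C), (A (M 1
  x10) (M 0 C))), ((M 2 C), (A (M 1 x11) (M 0 C))), ((M 2 C), (A (M 1 x12) (M 0 C))), ((M 2 C), (A (M 1 x13) (M 0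
  C))), ((M 2 C), (A (M 1 x14) (M 0 C))), ((M 2 C), (A (M 1 x15) (M 0 C))), ((M 2 C), (A (M 1 x16) (M 0 C))), ((M 2
  C), (A (M 1 x17) (M 0 C))), ((M 2 C), (A (M 1 x18) (M 0 C))), ((M 2 C), (A (M 1 x19) (M 0 C))), ((M 2 C), (A (M 1
  x20) (M 0 C))), ((M 2 C), (A (M 1 x21) (M 0 C))), ((M 2 C), (A (M 1 x22) (M 0 C))), ((M 2 C), (A (M 1 x23) (M 0 C)))] : List (ℕ × ℕ))

theorem f8_eq : f8 = fnOf 24 m8 := rfl

/-- the letter 9 -/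
def m9 : List Row := [
  (([(20, 1)], 0), [], 0), (([], 2), [(4, 1)], 0), (([], 2), [(6, 1)], 0), (([], 2), [(5, 1)], 0), (([(1, 1)], 0), [],
  0), (([(3, 1)], 0), [], 0), (([(2, 1)], 0), [], 0), (([], 2), [(17, 1)], 0), (([(12, 1)], 0), [], 0), (([(14, 1)],
  0), [], 0), (([(13, 1)], 0), [], 0), (([], 2), [(22, 1)], 0), (([], 2), [(8, 1)], 0), (([], 2), [(10, 1)], 0), (([],
  2), [(9, 1)], 0), (([(18, 1)], 0), [], 0), (([], 2), [(21, 1)], 0), (([(7, 1)], 0), [], 0), (([], 2), [(15, 1)], 0),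
  (([], 2), [(23, 1)], 0), (([], 2), [(0, 1)], 0), (([(16, 1)], 0), [], 0), (([(11, 1)], 0), [], 0), (([(19, 1)], 0),
  [], 0)]

/-- the function of the letter 9 -/
def f9 (C : ℕ) : Fn (List (ℕ × ℕ)) 24 := fun (
    x0 x1 x2 x3 x4 x5 x6 x7 x8 x9 x10 x11 x12 x13 x14 x15 x16 x17 x18 x19 x20 x21 x22 x23 : ℕ) => ([
  ((A (M 1 x20) (M 0 C)), (M 0 C)), ((M 2 C), (A (M 1 x4) (M 0 C))), ((M 2 C), (A (M 1 x6) (M 0 C))), ((M 2 C), (A (M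
  1 x5) (M 0 C))), ((A (M 1 x1) (M 0 C)), (M 0 C)), ((A (M 1 x3) (M 0 C)), (M 0 C)), ((A (M 1 x2) (M 0 C)), (M 0 C)),
  ((M 2 C), (A (M 1 x17) (M 0 C))), ((A (M 1 x12) (M 0 C)), (M 0 C)), ((A (M 1 x14) (M 0 C)), (M 0 C)), ((A (M 1 x13)
  (M 0 C)), (M 0 C)), ((M 2 C), (A (M 1 x22) (M 0 C))), ((M 2 C), (A (M 1 x8) (M 0 C))), ((M 2 C), (A (M 1 x10) (M 0
  C))), ((M 2 C), (A (M 1 x9) (M 0 C))), ((A (M 1 x18) (M 0 C)), (M 0 C)), ((M 2 C), (A (M 1 x21) (M 0 C))), ((A (M 1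
  x7) (M 0 C)), (M 0 C)), ((M 2 C), (A (M 1 x15) (M 0 C))), ((M 2 C), (A (M 1 x23) (M 0 C))), ((M 2 C), (A (M 1 x0) (M
  0 C))), ((A (M 1 x16) (M 0 C)), (M 0 C)), ((A (M 1 x11) (M 0 C)), (M 0 C)), ((A (M 1 x19) (M 0 C)), (M 0 C))] : List (ℕ × ℕ))

theorem f9_eq : f9 = fnOf 24 m9 := rfl

/-- the letters -/
def ms : List (List Row) := [m0, m1, m2, m3, m4, m5, m6, m7, m8, m9]

/-- the functions -/
def fs : List (ℕ → Fn (List (ℕ × ℕ)) 24) := [f0, f1, f2, f3, f4, f5, f6, f7, f8, f9]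

/-- the denominators -/
def sc : List ℕ := [1, 4, 1, 1, 2, 1, 1, 2, 1, 1]

theorem ok_ms : OkL 24 ms sc fs := by
  refine ⟨?_, by decide +kernel⟩
  rw [fs, f0_eq, f1_eq, f2_eq, f3_eq, f4_eq, f5_eq, f6_eq, f7_eq, f8_eq, f9_eq]
  rfl

/-- the word of an inverse -/
def iw (w : List ℕ) : List ℕ := w.reverse.flatMap (List.replicate 11)

/-- the check of an equation -/
noncomputable def eqB (v w : List ℕ) : Bool := relB 24 ms sc fs 8 (v ++ iw w)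

/-- the check of a scalar -/
noncomputable def scB (w : List ℕ) : Bool := eqB w [] || (eqB w [7, 7, 7] || eqB w [7])

/-- the numbers of the generators -/
def ix : Spor.Suz.Gen → ℕ
  | .a => 0
  | .b => 1
  | .c => 2
  | .d => 3
  | .e => 4
  | .f => 5
  | .g => 6

/-- powers of words -/
def pw (w : List ℕ) (k : ℕ) : List ℕ := (List.replicate k w).flatten

theorem p12_chk : ∀ x < 10, relB 24 ms sc fs 8 (List.replicate 12 x) = true := by decide +kernel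

theorem neg_chk : ∀ i j : Fin 24, TAB.Use.coef ((m8.map sgn).getD i []) j = if i = j then -1 else 0 := by
  decide +kernel

theorem cox_chk (x y : Spor.Suz.Gen) : scB (pw [ix x, ix y] (Spor.coxLabel Spor.Suz.edges x y)) = true := by
  cases x <;> cases y <;> decide +kernel

theorem ex_chk : scB (pw [2, 3] 4 ++ [0]) = true ∧ scB (pw [5, 6] 2 ++ [0]) = true ∧ scB (pw [0, 1, 2, 5] 5) = true ∧
    scB (pw [1, 5, 6] 5) = true ∧ scB (pw (pw [1, 2, 3, 2, 3] 5 ++ [4]) 3) = true := by decide +kernel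

theorem cen_chk (x : Spor.Suz.Gen) : eqB [7, ix x] [ix x, 7] = true := by cases x <;> decide +kernel

theorem tau_chk (x : Spor.Suz.Gen) : eqB [9, ix x] [ix (KFacts.SuzRho.sw x), 9] = true := by
  cases x <;> decide +kernel

theorem j_chk : eqB (List.replicate 6 7) [] = true ∧ eqB [8] [7, 7, 7] = true ∧ eqB [7, 9, 7] [9] = true ∧
    eqB [9, 9] [7, 7, 7] = true ∧ trB 24 ms sc fs 8 [] 24 = true ∧ trB 24 ms sc fs 8 [7, 7] (-12) = true ∧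
    trB 24 ms sc fs 8 [7, 7, 7] (-24) = true ∧ eqB [0, 0, 0, 0] [] = true := by decide +kernel

/-- words which commute up to a scalar -/
def w1 : List ℕ := [3, 2, 1, 4, 5, 6, 1, 2, 3, 2, 1, 6, 5, 4, 1, 2]

/-- words which commute up to a scalar -/
def w4 : List ℕ := [1, 6, 1, 5, 1, 6, 5, 6, 1, 5, 6]

theorem com_chk : eqB (w1 ++ [3]) ([7, 7, 7] ++ ([3] ++ w1)) = true ∧
    eqB ([1, 5] ++ w4) ([7, 7, 7, 7] ++ (w4 ++ [1, 5])) = true := by decide +kernel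

/-- the words of the representatives -/
noncomputable def wd (i : ℕ) : List ℕ :=
  (H123.Cls.SuzDat.W.map fun y => y.2.1 ++ y.2.2 ++ y.2.1.reverse ++ y.2.2.reverse).getD i []

/-- the traces -/
def trs : List (List ℤ) := [
  [24, -12, -12, 24, -12, -12, 24, -12, -12], [-8, 4, 4, 24, -12, -12, 24, -12, -12], [0, 0, 0, -8, 4, 4, 24, -12,
  -12], [-2, 1, 1, 6, -3, -3, 6, -3, -3], [-6, 3, 3, 6, -3, -3, 6, -3, -3], [-2, 1, 1, 2, -1, -1, -6, 3, 3], [0, 0, 0,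
  0, 0, 0, 0, 0, 0], [-4, 2, 2, 4, -2, -2, -12, 6, 6], [0, 3, -3, -2, 1, 1, 6, -3, -3], [-1, -1, 2, -1, 2, -1, -1, -1,
  2], [0, 0, 0, 4, -2, -2, -4, 2, 2], [-4, 2, 2, 0, 0, 0, -8, 4, 4], [0, 0, 0, -4, 2, 2, 4, -2, -2], [-2, 1, 1, -2, 1,
  1, -2, 1, 1], [4, -2, -2, 4, -2, -2, 4, -2, -2], [0, 0, 0, 0, 0, 0, 0, 0, 0], [-2, 1, 1, -2, 1, 1, -2, 1, 1], [-2,
  1, 1, 2, -1, -1, 2, -1, -1], [0, 0, 0, 0, 0, 0, 0, 0, 0], [0, 0, 0, 0, 0, 0, 0, 0, 0], [-3, 0, 3, 3, -3, 0, 3, 0,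
  -3], [1, 1, -2, 3, 0, -3, 3, -3, 0], [0, 0, 0, 0, 0, 0, 12, 12, -24], [0, 0, 0, 0, 0, 0, -4, 8, -4], [0, 0, 0, -4,
  2, 2, -12, 6, 6], [-2, 1, 1, -6, 3, 3, -6, 3, 3], [-2, 1, 1, -2, 1, 1, 6, -3, -3], [0, 0, 0, 4, -2, -2, 4, -2, -2],
  [4, -2, -2, -12, 6, 6, -12, 6, 6], [4, -2, -2, -4, 2, 2, -4, 2, 2], [0, 0, 0, -8, 4, 4, -8, 4, 4], [0, 0, 0, -24,
  12, 12, 24, -12, -12], [-5, 4, 1, -3, -3, 6, -3, 6, -3], [0, 0, 0, 8, -4, -4, 24, -12, -12], [-6, 3, 3, -6, 3, 3,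
  -6, 3, 3], [-8, 4, 4, -8, 4, 4, 24, -12, -12], [-12, 6, 6, -12, 6, 6, -12, 6, 6]]

/-- the traces of the three multiples of a power -/
noncomputable def tv (t a : ℕ) : ℤ × ℤ × ℤ :=
  (nth (ntd trs [] t) (3 * a), nth (ntd trs [] t) (3 * a + 1), nth (ntd trs [] t) (3 * a + 2))

/-- the check of three traces -/
noncomputable def tr3 (w : List ℕ) (v : ℤ × ℤ × ℤ) : Bool :=
  trB 24 ms sc fs 8 w v.1 && (trB 24 ms sc fs 8 ([7, 7] ++ w) v.2.1 && trB 24 ms sc fs 8 ([7, 7] ++ ([7, 7] ++ w)) v.2.2)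

/-- the check of a representative -/
noncomputable def trT (t : ℕ) : Bool :=
  allL (fun x => Nat.blt x 7) (wd (sw t)) && (tr3 (wd (sw t)) (tv t 0) && (tr3 (pw (wd (sw t)) 2) (tv t 1) &&
    tr3 (pw (wd (sw t)) 4) (tv t 2)))

theorem tr_chk0 : ∀ s < 10, 0 + s < 37 → trT (0 + s) = true := by decide +kernel

theorem tr_chk1 : ∀ s < 10, 10 + s < 37 → trT (10 + s) = true := by decide +kernel

theorem tr_chk2 : ∀ s < 10, 20 + s < 37 → trT (20 + s) = true := by decide +kernel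

theorem tr_chk3 : ∀ s < 10, 30 + s < 37 → trT (30 + s) = true := by decide +kernel

theorem tr_chk (t : ℕ) (ht : t < 37) : trT t = true := by
  rcases (by omega : t < 10 ∨ 10 ≤ t ∧ t < 20 ∨ 20 ≤ t ∧ t < 30 ∨ 30 ≤ t) with h | h | h | h
  · simpa using tr_chk0 t h (by omega)
  · have := tr_chk1 (t - 10) (by omega) (by omega)
    rwa [Nat.add_sub_cancel' h.1] at this
  · have := tr_chk2 (t - 20) (by omega) (by omega)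
    rwa [Nat.add_sub_cancel' h.1] at this
  · have := tr_chk3 (t - 30) (by omega) (by omega)
    rwa [Nat.add_sub_cancel' h] at this

end Cfsg.Agent.MK.S4.Z
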