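import Cfsg.Agent.MK.S4.ZD
import Cfsg.Agent.MK.S7.Cov

/-!
# MK, `3.Suz` : the faithful rows, data and checks (helper88)
-/

set_option autoImplicit false
set_option maxRecDepth 100000
set_option Elab.async false

namespace Cfsg.Agent.MK.S4.Z

open Cfsg Finset Cfsg.Agent.TAB.Eng Cfsg.Agent.TAB.Sz

section data

local notation "Q" => Int.ofNat
local notation "W" => Int.negSucc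

/-- the coefficients of a seed -/
def cfa : List (List (ℤ × ℕ)) := [
  [(Q 1, 0)],
  [(W 0, 0)],
  [(Q 63, 0), (W 11, 2), (W 107, 3), (Q 9, 4), (W 60, 5), (Q 51, 6), (Q 15, 7), (Q 13, 8), (W 24, 9), (Q 8, 10),
  (Q 56, 11), (Q 21, 12), (W 9, 13), (Q 10, 14), (W 34, 15), (W 60, 16), (Q 13, 17), (Q 14, 18), (Q 3, 19), (W 18,
  21), (Q 25, 22), (W 16, 23), (Q 35, 24), (W 9, 27), (W 1, 28), (W 3, 31)],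
  [(W 0, 0), (W 2, 1), (W 1, 3), (W 1, 4), (W 0, 5), (Q 1, 7), (W 0, 8), (Q 2, 11), (W 0, 12), (W 0, 14), (W 0, 15),
  (W 0, 16), (Q 1, 19), (Q 1, 22), (Q 1, 24), (W 0, 28), (W 0, 31)],
  [(W 135, 0), (Q 5, 1), (Q 27, 2), (Q 239, 3), (W 16, 4), (Q 134, 5), (W 111, 6), (W 33, 7), (W 28, 8), (Q 55, 9),
  (W 17, 10), (W 123, 11), (W 44, 12), (Q 22, 13), (W 20, 14), (Q 77, 15), (Q 133, 16), (W 28, 17), (W 29, 18), (W 7,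
  19), (Q 42, 21), (W 54, 22), (Q 37, 23), (W 76, 24), (Q 22, 27), (Q 5, 28), (Q 10, 31)],
  [],
  [(W 245, 0), (Q 13, 1), (Q 49, 2), (Q 435, 3), (W 29, 4), (Q 241, 5), (W 200, 6), (W 59, 7), (W 51, 8), (Q 100, 9),
  (W 33, 10), (W 226, 11), (W 80, 12), (Q 40, 13), (W 36, 14), (Q 142, 15), (Q 242, 16), (W 51, 17), (W 53, 18),
  (W 12, 19), (Q 77, 21), (W 101, 22), (Q 67, 23), (W 140, 24), (Q 40, 27), (Q 9, 28), (Q 18, 31)],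
  [(Q 63, 0), (W 1, 1), (W 11, 2), (W 107, 3), (Q 9, 4), (W 60, 5), (Q 51, 6), (Q 15, 7), (Q 13, 8), (W 24, 9), (Q 8,
  10), (Q 56, 11), (Q 21, 12), (W 9, 13), (Q 10, 14), (W 34, 15), (W 60, 16), (Q 13, 17), (Q 14, 18), (Q 3, 19),
  (W 18, 21), (Q 25, 22), (W 16, 23), (Q 35, 24), (W 9, 27), (W 1, 28), (W 3, 31)],
  [(W 62, 0), (Q 1, 1), (Q 12, 2), (Q 108, 3), (W 8, 4), (Q 61, 5), (W 50, 6), (W 14, 7), (W 12, 8), (Q 25, 9), (W 7,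
  10), (W 55, 11), (W 20, 12), (Q 10, 13), (W 9, 14), (Q 35, 15), (Q 61, 16), (W 12, 17), (W 13, 18), (W 2, 19),
  (Q 19, 21), (W 24, 22), (Q 17, 23), (W 34, 24), (Q 10, 27), (Q 2, 28), (Q 4, 31)],
  [(W 105, 0), (Q 4, 1), (Q 21, 2), (Q 187, 3), (W 13, 4), (Q 106, 5), (W 87, 6), (W 26, 7), (W 22, 8), (Q 43, 9),
  (W 13, 10), (W 96, 11), (W 34, 12), (Q 17, 13), (W 15, 14), (Q 60, 15), (Q 104, 16), (W 22, 17), (W 22, 18), (W 6,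
  19), (Q 33, 21), (W 42, 22), (Q 29, 23), (W 59, 24), (Q 17, 27), (Q 4, 28), (Q 8, 31)],
  [(Q 241, 0), (W 9, 1), (W 47, 2), (W 424, 3), (Q 31, 4), (W 239, 5), (Q 200, 6), (Q 61, 7), (Q 52, 8), (W 97, 9),
  (Q 32, 10), (Q 221, 11), (Q 80, 12), (W 38, 13), (Q 37, 14), (W 136, 15), (W 236, 16), (Q 52, 17), (Q 53, 18),
  (Q 15, 19), (W 74, 21), (Q 98, 22), (W 65, 23), (Q 137, 24), (W 38, 27), (W 8, 28), (W 17, 31)],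
  [(Q 160, 0), (W 7, 1), (W 29, 2), (W 285, 3), (Q 17, 4), (W 158, 5), (Q 132, 6), (Q 41, 7), (Q 32, 8), (W 65, 9),
  (Q 21, 10), (Q 149, 11), (Q 53, 12), (W 25, 13), (Q 23, 14), (W 91, 15), (W 159, 16), (Q 34, 17), (Q 35, 18), (Q 9,
  19), (W 49, 21), (Q 67, 22), (W 43, 23), (Q 94, 24), (W 25, 27), (W 6, 28), (W 12, 31)],
  [(Q 1, 2)],
  [(Q 1, 0), (Q 3, 1), (W 0, 2), (Q 2, 3), (Q 2, 4), (Q 1, 5), (W 0, 7), (Q 1, 8), (W 1, 11), (Q 1, 12), (Q 1, 14),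
  (Q 1, 15), (Q 1, 16), (W 0, 19), (W 0, 22), (W 0, 24), (Q 1, 28), (Q 1, 31)],
  [(W 29, 0), (Q 1, 1), (Q 6, 2), (Q 52, 3), (W 3, 4), (Q 29, 5), (W 23, 6), (W 6, 7), (W 5, 8), (Q 12, 9), (W 3, 10),
  (W 26, 11), (W 9, 12), (Q 5, 13), (W 4, 14), (Q 17, 15), (Q 29, 16), (W 5, 17), (W 6, 18), (W 0, 19), (Q 9, 21),
  (W 11, 22), (Q 8, 23), (W 16, 24), (Q 5, 27), (Q 1, 28), (Q 2, 31)],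
  [(W 157, 0), (Q 11, 1), (Q 32, 2), (Q 283, 3), (W 16, 4), (Q 155, 5), (W 128, 6), (W 39, 7), (W 32, 8), (Q 65, 9),
  (W 22, 10), (W 147, 11), (W 51, 12), (Q 26, 13), (W 22, 14), (Q 93, 15), (Q 157, 16), (W 32, 17), (W 34, 18), (W 7,
  19), (Q 50, 21), (W 66, 22), (Q 43, 23), (W 91, 24), (Q 26, 27), (Q 6, 28), (Q 12, 31)],
  [(Q 63, 0), (W 0, 1), (W 11, 2), (W 108, 3), (Q 9, 4), (W 60, 5), (Q 51, 6), (Q 15, 7), (Q 13, 8), (W 24, 9), (Q 8,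
  10), (Q 56, 11), (Q 21, 12), (W 9, 13), (Q 10, 14), (W 34, 15), (W 60, 16), (Q 13, 17), (Q 14, 18), (Q 3, 19),
  (W 18, 21), (Q 25, 22), (W 16, 23), (Q 35, 24), (W 9, 27), (W 1, 28), (W 3, 31)],
  [(W 391, 0), (Q 17, 1), (Q 78, 2), (Q 690, 3), (W 49, 4), (Q 385, 5), (W 321, 6), (W 95, 7), (W 83, 8), (Q 159, 9),
  (W 52, 10), (W 358, 11), (W 128, 12), (Q 63, 13), (W 59, 14), (Q 224, 15), (Q 385, 16), (W 82, 17), (W 86, 18),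
  (W 21, 19), (Q 122, 21), (W 160, 22), (Q 107, 23), (W 222, 24), (Q 64, 27), (Q 14, 28), (Q 28, 31)],
  [(Q 136, 0), (W 4, 1), (W 26, 2), (W 238, 3), (Q 18, 4), (W 133, 5), (Q 112, 6), (Q 34, 7), (Q 29, 8), (W 54, 9),
  (Q 18, 10), (Q 124, 11), (Q 45, 12), (W 21, 13), (Q 21, 14), (W 76, 15), (W 132, 16), (Q 29, 17), (Q 30, 18), (Q 8,
  19), (W 41, 21), (Q 55, 22), (W 36, 23), (Q 77, 24), (W 21, 27), (W 4, 28), (W 9, 31)],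
  [(Q 246, 0), (W 12, 1), (W 48, 2), (W 434, 3), (Q 29, 4), (W 240, 5), (Q 201, 6), (Q 60, 7), (Q 52, 8), (W 99, 9),
  (Q 34, 10), (Q 227, 11), (Q 81, 12), (W 39, 13), (Q 37, 14), (W 141, 15), (W 241, 16), (Q 52, 17), (Q 54, 18),
  (Q 13, 19), (W 76, 21), (Q 102, 22), (W 66, 23), (Q 141, 24), (W 39, 27), (W 8, 28), (W 17, 31)],
  [(W 153, 0), (Q 5, 1), (Q 31, 2), (Q 272, 3), (W 19, 4), (Q 152, 5), (W 127, 6), (W 37, 7), (W 32, 8), (Q 63, 9),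
  (W 20, 10), (W 139, 11), (W 51, 12), (Q 25, 13), (W 23, 14), (Q 88, 15), (Q 151, 16), (W 32, 17), (W 33, 18), (W 7,
  19), (Q 48, 21), (W 62, 22), (Q 42, 23), (W 86, 24), (Q 25, 27), (Q 5, 28), (Q 11, 31)],
  [(Q 42, 0), (W 3, 1), (W 8, 2), (W 76, 3), (Q 3, 4), (W 38, 5), (Q 33, 6), (Q 9, 7), (Q 8, 8), (W 16, 9), (Q 8, 10),
  (Q 40, 11), (Q 14, 12), (W 6, 13), (Q 6, 14), (W 25, 15), (W 41, 16), (Q 8, 17), (Q 9, 18), (W 13, 21), (Q 19, 22),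
  (W 10, 23), (Q 25, 24), (W 6, 27), (W 0, 28), (W 2, 31)],
  [(Q 14, 0), (Q 1, 1), (W 1, 2), (W 23, 3), (Q 2, 4), (W 13, 5), (Q 12, 6), (Q 4, 7), (Q 3, 8), (W 5, 9), (Q 1, 10),
  (Q 12, 11), (Q 5, 12), (W 1, 13), (Q 2, 14), (W 6, 15), (W 13, 16), (Q 3, 17), (Q 3, 18), (Q 2, 19), (W 3, 21),
  (Q 5, 22), (W 3, 23), (Q 8, 24), (W 1, 27), (W 0, 28), (W 0, 31)],
  [(Q 104, 0), (W 3, 1), (W 20, 2), (W 180, 3), (Q 14, 4), (W 101, 5), (Q 85, 6), (Q 26, 7), (Q 22, 8), (W 41, 9),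
  (Q 14, 10), (Q 95, 11), (Q 34, 12), (W 16, 13), (Q 16, 14), (W 58, 15), (W 100, 16), (Q 22, 17), (Q 23, 18), (Q 6,
  19), (W 31, 21), (Q 42, 22), (W 27, 23), (Q 59, 24), (W 16, 27), (W 3, 28), (W 6, 31)],
  [(W 153, 0), (Q 8, 1), (Q 30, 2), (Q 275, 3), (W 17, 4), (Q 153, 5), (W 127, 6), (W 38, 7), (W 32, 8), (Q 63, 9),
  (W 20, 10), (W 142, 11), (W 50, 12), (Q 25, 13), (W 22, 14), (Q 89, 15), (Q 153, 16), (W 32, 17), (W 33, 18), (W 8,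
  19), (Q 49, 21), (W 63, 22), (Q 42, 23), (W 88, 24), (Q 25, 27), (Q 6, 28), (Q 12, 31)],
  [(W 167, 0), (Q 5, 1), (Q 33, 2), (Q 295, 3), (W 21, 4), (Q 165, 5), (W 138, 6), (W 41, 7), (W 35, 8), (Q 68, 9),
  (W 21, 10), (W 152, 11), (W 55, 12), (Q 27, 13), (W 25, 14), (Q 95, 15), (Q 165, 16), (W 35, 17), (W 36, 18), (W 9,
  19), (Q 52, 21), (W 67, 22), (Q 46, 23), (W 94, 24), (Q 27, 27), (Q 6, 28), (Q 12, 31)],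
  [(Q 27, 0), (W 1, 1), (W 4, 2), (W 50, 3), (Q 3, 4), (W 29, 5), (Q 25, 6), (Q 9, 7), (Q 7, 8), (W 11, 9), (Q 3, 10),
  (Q 27, 11), (Q 9, 12), (W 3, 13), (Q 4, 14), (W 15, 15), (W 27, 16), (Q 7, 17), (Q 6, 18), (Q 4, 19), (W 8, 21),
  (Q 11, 22), (W 7, 23), (Q 16, 24), (W 3, 27), (W 1, 28), (W 2, 31)],
  [(W 41, 0), (Q 3, 1), (Q 9, 2), (Q 75, 3), (W 3, 4), (Q 40, 5), (W 32, 6), (W 9, 7), (W 7, 8), (Q 17, 9), (W 6, 10),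
  (W 38, 11), (W 13, 12), (Q 7, 13), (W 5, 14), (Q 25, 15), (Q 41, 16), (W 7, 17), (W 8, 18), (W 0, 19), (Q 13, 21),
  (W 17, 22), (Q 11, 23), (W 23, 24), (Q 7, 27), (Q 1, 28), (Q 3, 31)],
  [(Q 190, 0), (W 10, 1), (W 37, 2), (W 340, 3), (Q 21, 4), (W 187, 5), (Q 157, 6), (Q 48, 7), (Q 40, 8), (W 77, 9),
  (Q 27, 10), (Q 177, 11), (Q 63, 12), (W 30, 13), (Q 28, 14), (W 110, 15), (W 188, 16), (Q 40, 17), (Q 42, 18),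
  (Q 10, 19), (W 59, 21), (Q 80, 22), (W 51, 23), (Q 110, 24), (W 30, 27), (W 6, 28), (W 14, 31)],
  [(Q 45, 0), (W 3, 1), (W 7, 2), (W 83, 3), (Q 3, 4), (W 44, 5), (Q 38, 6), (Q 11, 7), (Q 10, 8), (W 18, 9), (Q 6,
  10), (Q 44, 11), (Q 15, 12), (W 6, 13), (Q 6, 14), (W 26, 15), (W 46, 16), (Q 10, 17), (Q 10, 18), (Q 3, 19), (W 14,
  21), (Q 20, 22), (W 12, 23), (Q 27, 24), (W 6, 27), (W 1, 28), (W 3, 31)],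
  [(Q 159, 0), (W 7, 1), (W 31, 2), (W 282, 3), (Q 19, 4), (W 157, 5), (Q 132, 6), (Q 40, 7), (Q 34, 8), (W 64, 9),
  (Q 22, 10), (Q 147, 11), (Q 53, 12), (W 25, 13), (Q 24, 14), (W 91, 15), (W 156, 16), (Q 34, 17), (Q 35, 18), (Q 9,
  19), (W 49, 21), (Q 66, 22), (W 42, 23), (Q 91, 24), (W 25, 27), (W 5, 28), (W 11, 31)],
  [(W 4, 0), (Q 1, 1), (Q 2, 2), (Q 10, 3), (Q 4, 5), (W 3, 6), (W 0, 8), (Q 2, 9), (W 1, 10), (W 4, 11), (W 1, 12),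
  (Q 1, 13), (W 0, 14), (Q 4, 15), (Q 5, 16), (W 0, 17), (W 0, 18), (Q 1, 19), (Q 2, 21), (W 2, 22), (Q 1, 23), (W 2,
  24), (Q 1, 27)],
  [(Q 271, 0), (W 13, 1), (W 53, 2), (W 479, 3), (Q 33, 4), (W 266, 5), (Q 223, 6), (Q 66, 7), (Q 58, 8), (W 109, 9),
  (Q 37, 10), (Q 250, 11), (Q 89, 12), (W 43, 13), (Q 41, 14), (W 155, 15), (W 266, 16), (Q 58, 17), (Q 60, 18),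
  (Q 15, 19), (W 84, 21), (Q 112, 22), (W 73, 23), (Q 155, 24), (W 43, 27), (W 9, 28), (W 19, 31)],
  [(Q 330, 0), (W 10, 1), (W 64, 2), (W 580, 3), (Q 42, 4), (W 323, 5), (Q 272, 6), (Q 81, 7), (Q 69, 8), (W 133, 9),
  (Q 44, 10), (Q 301, 11), (Q 110, 12), (W 53, 13), (Q 51, 14), (W 186, 15), (W 323, 16), (Q 70, 17), (Q 72, 18),
  (Q 18, 19), (W 101, 21), (Q 134, 22), (W 89, 23), (Q 188, 24), (W 52, 27), (W 11, 28), (W 23, 31)],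
  [(Q 101, 0), (W 1, 1), (W 17, 2), (W 177, 3), (Q 12, 4), (W 97, 5), (Q 83, 6), (Q 24, 7), (Q 22, 8), (W 40, 9),
  (Q 12, 10), (Q 92, 11), (Q 34, 12), (W 14, 13), (Q 15, 14), (W 55, 15), (W 99, 16), (Q 21, 17), (Q 22, 18), (Q 6,
  19), (W 31, 21), (Q 40, 22), (W 28, 23), (Q 58, 24), (Q 1, 26), (W 14, 27), (W 3, 28), (W 6, 31)],
  [(Q 190, 0), (W 13, 1), (W 35, 2), (W 343, 3), (Q 19, 4), (W 189, 5), (Q 158, 6), (Q 47, 7), (Q 42, 8), (W 77, 9),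
  (Q 26, 10), (Q 180, 11), (Q 62, 12), (W 29, 13), (Q 27, 14), (W 110, 15), (W 189, 16), (Q 41, 17), (Q 42, 18),
  (Q 12, 19), (W 60, 21), (Q 79, 22), (W 52, 23), (Q 110, 24), (W 29, 27), (W 7, 28), (Q 1, 29), (W 15, 31)]]

/-- the coefficients of a seed -/
def cfb : List (List (ℤ × ℕ)) := [
  [],
  [(Q 1, 0)],
  [(Q 39, 0), (W 10, 1), (Q 10, 2), (Q 49, 3), (Q 29, 4), (Q 40, 5), (W 12, 6)],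
  [(Q 2, 0), (Q 1, 1), (Q 1, 2), (Q 2, 3), (Q 3, 4), (Q 1, 5), (W 0, 7)],
  [(W 87, 0), (Q 22, 1), (W 21, 2), (W 109, 3), (W 65, 4), (W 87, 5), (Q 29, 6), (Q 1, 7)],
  [],
  [(W 160, 0), (Q 39, 1), (W 39, 2), (W 200, 3), (W 121, 4), (W 158, 5), (Q 52, 6), (Q 2, 7)],
  [(Q 39, 0), (W 9, 1), (Q 10, 2), (Q 49, 3), (Q 29, 4), (Q 40, 5), (W 12, 6)],
  [(W 39, 0), (Q 11, 1), (W 9, 2), (W 48, 3), (W 28, 4), (W 39, 5), (Q 13, 6)],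
  [(W 68, 0), (Q 17, 1), (W 16, 2), (W 86, 3), (W 51, 4), (W 68, 5), (Q 23, 6), (Q 1, 7)],
  [(Q 158, 0), (W 38, 1), (Q 39, 2), (Q 197, 3), (Q 118, 4), (Q 157, 5), (W 51, 6), (W 1, 7)],
  [(Q 108, 0), (W 26, 1), (Q 26, 2), (Q 134, 3), (Q 82, 4), (Q 105, 5), (W 32, 6), (W 2, 7)],
  [],
  [(W 1, 0), (W 0, 1), (W 1, 3), (W 2, 4), (W 0, 5), (Q 1, 7)],
  [(W 18, 0), (Q 5, 1), (W 4, 2), (W 23, 3), (W 13, 4), (W 18, 5), (Q 6, 6)],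
  [(W 105, 0), (Q 25, 1), (W 25, 2), (W 131, 3), (W 81, 4), (W 102, 5), (Q 33, 6), (Q 3, 7)],
  [(Q 40, 0), (W 10, 1), (Q 10, 2), (Q 50, 3), (Q 29, 4), (Q 40, 5), (W 12, 6)],
  [(W 255, 0), (Q 64, 1), (W 62, 2), (W 318, 3), (W 191, 4), (W 252, 5), (Q 83, 6), (Q 3, 7)],
  [(Q 88, 0), (W 21, 1), (Q 22, 2), (Q 110, 3), (Q 66, 4), (Q 88, 5), (W 28, 6), (W 0, 7)],
  [(Q 161, 0), (W 38, 1), (Q 40, 2), (Q 201, 3), (Q 123, 4), (Q 159, 5), (W 51, 6), (W 1, 7)],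
  [(W 100, 0), (Q 26, 1), (W 24, 2), (W 125, 3), (W 74, 4), (W 99, 5), (Q 33, 6), (Q 1, 7)],
  [(Q 29, 0), (W 6, 1), (Q 7, 2), (Q 36, 3), (Q 23, 4), (Q 27, 5), (W 7, 6), (W 0, 7)],
  [(Q 9, 0), (W 2, 1), (Q 2, 2), (Q 11, 3), (Q 6, 4), (Q 9, 5), (W 2, 6)],
  [(Q 67, 0), (W 16, 1), (Q 17, 2), (Q 84, 3), (Q 50, 4), (Q 66, 5), (W 21, 6), (W 0, 7)],
  [(W 102, 0), (Q 25, 1), (W 24, 2), (W 127, 3), (W 77, 4), (W 100, 5), (Q 33, 6), (Q 2, 7)],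
  [(W 108, 0), (Q 28, 1), (W 26, 2), (W 135, 3), (W 80, 4), (W 107, 5), (Q 36, 6), (Q 1, 7)],
  [(Q 20, 0), (W 3, 1), (Q 4, 2), (Q 25, 3), (Q 15, 4), (Q 19, 5), (W 6, 6), (W 0, 7)],
  [(W 27, 0), (Q 7, 1), (W 6, 2), (W 34, 3), (W 21, 4), (W 26, 5), (Q 8, 6), (Q 1, 7)],
  [(Q 128, 0), (W 30, 1), (Q 31, 2), (Q 159, 3), (Q 98, 4), (Q 125, 5), (W 39, 6), (W 2, 7)],
  [(Q 32, 0), (W 6, 1), (Q 7, 2), (Q 40, 3), (Q 25, 4), (Q 30, 5), (W 9, 6), (W 0, 7)],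
  [(Q 106, 0), (W 25, 1), (Q 26, 2), (Q 132, 3), (Q 80, 4), (Q 104, 5), (W 33, 6), (W 1, 7)],
  [(W 3, 0), (Q 1, 1), (W 0, 2), (W 4, 3), (W 2, 4), (W 2, 5), (Q 1, 6)],
  [(Q 178, 0), (W 42, 1), (Q 44, 2), (Q 222, 3), (Q 135, 4), (Q 176, 5), (W 57, 6), (W 1, 7)],
  [(Q 215, 0), (W 54, 1), (Q 54, 2), (Q 268, 3), (Q 160, 4), (Q 213, 5), (W 69, 6), (W 1, 7)],
  [(Q 65, 0), (W 16, 1), (Q 15, 2), (Q 82, 3), (Q 48, 4), (Q 64, 5), (W 21, 6)],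
  [(Q 128, 0), (W 27, 1), (Q 30, 2), (Q 160, 3), (Q 100, 4), (Q 126, 5), (W 41, 6), (W 1, 7)]]

/-- the coefficients of a seed -/
def cfc : List (List (ℤ × ℕ)) := [
  [],
  [],
  [(W 0, 0)],
  [(Q 1, 0)],
  [],
  [(Q 1, 0)],
  [(W 0, 0)],
  [],
  [],
  [],
  [],
  [(W 0, 2)],
  [],
  [(W 0, 0)],
  [],
  [(Q 1, 2)],
  [(W 0, 0)],
  [],
  [],
  [(Q 1, 0)],
  [(Q 1, 0)],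
  [],
  [(W 0, 0)],
  [],
  [],
  [(Q 1, 0)],
  [],
  [(Q 1, 2)],
  [(W 0, 2)],
  [],
  [],
  [],
  [(Q 1, 0)],
  [(W 0, 0)],
  [(W 1, 0)],
  [(Q 2, 0)]]

/-- the faithful rows at a multiple -/
def fr0 : List (List ℤ) := [
  [Q 132, Q 4, Q 4, W 1, Q 6, Q 0, Q 0, Q 2, W 1, Q 0, W 1, Q 4, Q 2, Q 2, Q 2, Q 0, Q 2, Q 0, Q 0, Q 0, Q 0, W 1,
  Q 0, Q 0, Q 2, Q 4, Q 2, W 1, Q 10, Q 6, Q 4, Q 12, Q 7, W 3, Q 12, Q 20, Q 42],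
  [Q 156, Q 28, W 3, Q 4, Q 12, Q 2, Q 0, Q 6, W 3, W 0, Q 2, Q 4, W 1, Q 0, Q 6, Q 0, Q 0, Q 2, Q 0, Q 0, Q 3, Q 1,
  Q 0, Q 0, W 1, W 1, Q 0, Q 2, W 1, Q 2, W 3, W 11, Q 4, Q 4, Q 6, Q 12, Q 30],
  [Q 858, W 37, W 5, Q 4, Q 12, Q 2, Q 0, W 5, Q 0, Q 0, Q 4, Q 2, W 1, W 1, W 1, Q 0, Q 0, W 1, Q 0, Q 0, W 2, Q 1,
  W 2, Q 1, Q 2, Q 2, Q 0, Q 2, Q 10, Q 4, Q 2, Q 18, Q 10, Q 2, Q 18, Q 42, Q 138],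
  [Q 2730, Q 170, Q 10, Q 8, Q 48, Q 0, Q 0, W 1, Q 4, W 0, Q 0, Q 2, Q 2, W 1, Q 10, Q 0, Q 0, Q 0, Q 0, Q 0, Q 3,
  W 0, Q 3, W 0, W 1, Q 0, Q 4, Q 2, W 9, Q 0, Q 2, Q 42, W 3, Q 10, Q 0, Q 10, W 41],
  [Q 3432, Q 104, Q 8, Q 2, W 5, Q 0, Q 0, Q 10, Q 2, Q 0, Q 2, Q 0, Q 2, Q 2, Q 2, Q 0, Q 0, Q 2, Q 0, Q 0, Q 0, Q 2,
  Q 0, Q 0, Q 2, Q 4, W 1, Q 2, Q 26, Q 2, Q 8, Q 72, W 6, Q 8, Q 12, Q 40, Q 282],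
  [Q 4290, W 61, Q 2, W 1, Q 6, W 1, Q 0, W 3, Q 2, Q 0, W 1, Q 2, Q 0, Q 0, Q 0, Q 0, Q 0, Q 0, Q 0, Q 0, W 2, Q 1,
  Q 3, W 0, W 3, W 1, Q 2, Q 0, Q 4, Q 6, W 5, W 29, Q 13, Q 2, Q 30, Q 98, Q 420],
  [Q 6006, Q 118, W 9, W 1, Q 30, Q 2, Q 0, Q 10, Q 2, Q 0, Q 0, Q 6, W 1, Q 0, Q 6, Q 0, Q 0, Q 0, Q 0, Q 0, Q 0,
  W 1, W 2, Q 1, Q 2, W 1, W 1, W 1, W 13, Q 0, W 1, W 41, W 4, W 9, Q 6, Q 22, Q 210],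
  [Q 8580, Q 260, Q 4, Q 2, Q 66, Q 0, Q 0, Q 2, W 1, Q 0, W 1, Q 4, Q 2, W 1, Q 10, Q 0, Q 0, W 1, Q 0, Q 0, Q 0,
  Q 2, Q 0, Q 0, Q 2, Q 0, Q 2, W 1, W 21, W 1, Q 4, Q 12, Q 5, W 3, Q 0, Q 20, Q 138],
  [Q 13440, Q 128, Q 0, W 3, Q 12, W 1, Q 0, Q 8, Q 0, Q 1, Q 0, Q 0, Q 0, Q 0, Q 0, Q 0, W 1, Q 0, Q 0, Q 0, Q 3,
  W 0, Q 0, Q 0, Q 0, W 1, W 3, Q 0, Q 8, Q 0, Q 0, Q 0, Q 8, Q 0, Q 30, Q 128, Q 840],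
  [Q 37908, W 107, W 11, Q 0, Q 0, Q 2, Q 0, W 5, Q 0, W 0, W 3, W 3, W 1, W 1, W 1, Q 0, Q 0, Q 2, Q 0, Q 0, Q 0,
  Q 0, Q 0, Q 0, Q 2, Q 2, Q 0, W 1, Q 18, W 3, Q 4, Q 108, Q 0, W 3, Q 18, Q 132, Q 1458],
  [Q 42900, Q 20, W 11, Q 8, W 47, Q 0, Q 0, W 1, Q 0, Q 0, Q 4, W 3, Q 0, Q 0, Q 0, Q 0, Q 0, W 1, Q 0, Q 0, Q 3,
  W 0, Q 0, Q 0, W 1, Q 0, Q 4, W 1, Q 14, Q 4, Q 4, Q 60, W 9, W 19, Q 0, Q 100, Q 1230],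
  [Q 46200, W 519, Q 24, Q 8, Q 48, Q 0, Q 0, Q 4, Q 0, Q 0, Q 0, Q 0, Q 0, Q 0, Q 0, Q 0, W 1, Q 0, Q 0, Q 0, W 2,
  W 0, Q 6, Q 2, Q 4, Q 0, Q 4, Q 0, W 3, Q 0, Q 0, Q 0, W 9, Q 16, Q 0, Q 40, W 419],
  [Q 48048, Q 176, W 15, W 9, Q 78, Q 0, Q 0, W 3, Q 2, Q 0, Q 0, Q 0, Q 0, Q 2, Q 8, Q 0, Q 0, Q 0, Q 0, Q 0, Q 0,
  Q 2, Q 0, Q 0, Q 4, W 3, Q 2, Q 0, Q 20, Q 0, Q 0, Q 0, W 6, W 31, W 11, Q 80, W 587],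
  [Q 54054, Q 1062, Q 6, Q 12, Q 108, W 1, Q 0, W 9, Q 0, Q 0, Q 0, W 1, W 1, Q 2, Q 14, Q 0, Q 0, Q 0, Q 0, Q 0, Q 0,
  Q 0, W 2, Q 1, W 1, Q 2, W 3, W 1, Q 6, Q 0, W 1, W 41, Q 0, Q 22, W 5, Q 38, W 377],
  [Q 61776, W 431, Q 16, Q 6, Q 54, Q 2, Q 0, W 7, W 1, Q 0, Q 2, Q 0, Q 4, Q 2, W 3, Q 0, Q 0, Q 0, Q 0, Q 0, Q 0,
  Q 0, Q 0, Q 0, Q 0, W 1, W 1, Q 0, W 23, W 5, Q 0, W 95, Q 9, Q 0, Q 6, Q 112, Q 1512],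
  [Q 85800, Q 680, Q 8, Q 2, Q 66, Q 0, Q 0, Q 8, Q 2, Q 0, Q 2, Q 0, Q 0, Q 0, Q 0, Q 0, Q 0, Q 0, Q 0, Q 0, W 2,
  W 0, W 5, W 1, Q 0, Q 0, Q 2, Q 0, Q 8, W 5, Q 0, Q 240, Q 11, Q 0, Q 0, W 39, Q 840],
  [Q 103950, Q 270, Q 14, W 5, W 53, Q 0, Q 0, Q 2, Q 2, Q 0, Q 0, W 1, Q 0, Q 0, Q 0, Q 0, Q 2, Q 0, Q 0, Q 0, Q 0,
  Q 0, W 2, Q 1, Q 2, Q 0, Q 2, Q 2, W 29, Q 0, W 9, W 209, W 8, Q 14, Q 0, Q 110, Q 1890],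
  [Q 120120, W 199, Q 24, Q 4, Q 60, Q 0, Q 0, Q 2, Q 0, Q 0, Q 0, Q 0, W 1, Q 2, W 9, Q 0, Q 0, Q 0, Q 0, Q 0, Q 3,
  Q 1, Q 0, Q 0, Q 2, Q 0, Q 8, W 1, Q 10, Q 0, W 7, Q 168, Q 10, Q 8, Q 0, W 39, Q 42],
  [Q 128700, Q 60, Q 28, W 5, Q 18, Q 0, Q 0, W 1, W 1, Q 0, W 1, Q 4, Q 0, Q 0, Q 0, Q 0, Q 0, W 1, Q 0, Q 0, Q 0,
  Q 0, Q 0, Q 0, W 1, Q 0, W 1, Q 2, Q 54, W 1, W 3, Q 180, W 20, Q 4, Q 0, W 19, Q 2070],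
  [Q 150150, Q 1030, W 25, Q 10, W 5, Q 0, Q 0, Q 14, W 1, Q 0, Q 0, W 1, Q 0, Q 0, Q 0, Q 0, Q 0, Q 0, Q 0, Q 0, W 2,
  Q 1, Q 3, W 0, W 1, Q 0, Q 2, W 1, W 1, Q 0, W 1, W 209, W 10, W 1, Q 0, W 9, Q 1470],
  [Q 150150, Q 1030, W 25, W 1, Q 102, Q 0, Q 0, W 3, W 1, Q 0, Q 0, W 1, Q 0, Q 0, Q 0, Q 0, Q 0, Q 0, Q 0, Q 0, Q 0,
  W 1, Q 3, W 0, Q 4, Q 0, Q 2, Q 4, Q 28, Q 0, W 1, W 209, Q 7, W 1, Q 0, W 9, W 419],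
  [Q 171600, Q 80, Q 16, W 9, Q 78, Q 0, Q 0, W 3, W 1, Q 0, Q 2, Q 0, Q 0, Q 0, Q 0, Q 0, Q 0, Q 2, Q 0, Q 0, W 2,
  W 0, Q 0, Q 0, W 3, Q 0, Q 2, Q 0, W 27, Q 2, Q 0, Q 240, W 12, W 15, Q 0, Q 80, W 1019],
  [Q 208494, Q 1134, W 17, Q 0, Q 0, Q 2, Q 0, Q 0, Q 0, Q 0, W 1, W 1, Q 2, Q 0, W 5, Q 0, Q 0, Q 0, Q 0, Q 0, Q 0,
  Q 0, W 2, Q 1, Q 0, W 5, Q 0, Q 0, Q 0, Q 6, Q 6, Q 222, Q 0, Q 30, W 5, W 17, Q 0],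
  [Q 216216, W 359, W 7, W 5, W 53, W 3, Q 0, Q 2, W 1, Q 0, Q 0, Q 0, W 1, Q 0, Q 6, Q 0, Q 0, Q 0, Q 0, Q 0, Q 0,
  Q 0, Q 0, Q 0, Q 2, Q 0, Q 2, Q 2, W 29, Q 0, Q 8, Q 168, Q 9, Q 8, W 23, Q 56, Q 1890],
  [Q 266112, W 1151, Q 0, Q 12, Q 108, W 1, Q 0, Q 8, Q 0, Q 0, Q 0, Q 0, Q 0, W 1, W 7, Q 0, Q 2, Q 0, Q 0, Q 0, Q 0,
  Q 0, Q 0, Q 0, Q 0, W 1, W 3, Q 0, Q 24, Q 0, Q 0, Q 0, Q 0, Q 0, W 17, Q 128, W 1511],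
  [Q 270270, W 449, W 33, Q 6, Q 54, Q 0, Q 0, W 7, Q 2, Q 0, Q 0, Q 6, W 1, Q 2, W 9, Q 0, Q 0, Q 0, Q 0, Q 0, Q 0,
  Q 0, Q 3, W 0, Q 0, Q 0, W 1, Q 0, W 23, Q 0, Q 6, W 41, W 8, Q 6, Q 0, W 49, Q 1512],
  [Q 279552, Q 1024, Q 0, W 7, Q 120, Q 0, Q 0, Q 0, Q 0, Q 1, Q 0, Q 0, Q 0, W 1, W 7, Q 0, Q 0, Q 0, Q 0, Q 0, Q 3,
  Q 1, Q 0, Q 0, Q 0, Q 4, Q 0, Q 0, W 31, Q 0, Q 0, Q 0, W 7, Q 0, Q 12, Q 0, W 671],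
  [Q 320760, W 647, Q 24, Q 0, Q 0, Q 2, Q 0, Q 0, Q 0, Q 0, W 1, Q 0, Q 0, Q 0, Q 0, Q 0, W 1, Q 0, Q 0, Q 0, Q 0,
  Q 0, W 5, W 1, Q 0, Q 2, Q 0, Q 0, Q 0, Q 6, Q 0, W 239, Q 0, Q 0, W 29, Q 72, Q 0],
  [Q 360360, Q 552, Q 8, W 5, Q 18, Q 2, Q 0, Q 4, Q 2, Q 0, Q 0, Q 0, Q 0, Q 0, Q 0, Q 0, Q 0, Q 0, Q 0, Q 0, Q 0,
  Q 0, Q 6, Q 2, W 3, Q 2, W 1, Q 0, Q 12, Q 0, Q 0, Q 0, Q 21, W 15, W 29, W 7, Q 1260],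
  [Q 379080, W 1079, W 23, Q 0, Q 0, Q 0, Q 0, W 5, Q 0, Q 1, Q 2, Q 0, Q 2, W 1, Q 10, Q 0, Q 0, Q 2, Q 0, Q 0, Q 0,
  Q 0, Q 0, Q 0, Q 2, Q 0, Q 0, W 1, Q 18, Q 2, W 7, Q 72, Q 0, Q 8, Q 0, W 119, Q 1458],
  [Q 386100, Q 180, W 11, W 11, W 107, Q 0, Q 0, W 1, Q 0, Q 0, Q 2, Q 4, Q 0, Q 0, Q 0, Q 0, Q 0, Q 0, Q 0, Q 0, Q 0,
  Q 0, Q 0, Q 0, W 1, Q 0, Q 4, W 1, Q 30, W 5, Q 4, W 179, Q 0, Q 28, Q 0, Q 100, W 1889],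
  [Q 416988, W 1187, W 35, Q 0, Q 0, Q 2, Q 0, Q 6, Q 0, Q 0, W 1, W 3, Q 0, Q 2, Q 8, Q 0, Q 0, W 1, Q 0, Q 0, Q 0,
  Q 0, Q 0, Q 0, W 1, Q 2, Q 0, Q 2, W 17, W 1, W 3, Q 180, Q 0, Q 4, Q 18, Q 12, W 1457],
  [Q 450450, Q 1170, Q 18, Q 12, W 179, Q 0, Q 0, W 3, Q 0, Q 0, Q 0, Q 2, Q 0, Q 0, Q 0, Q 0, Q 0, Q 0, Q 0, Q 0,
  Q 0, Q 0, Q 3, W 0, Q 4, Q 0, W 3, Q 0, W 11, Q 0, W 5, Q 210, Q 0, W 13, Q 0, Q 50, W 1259],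
  [Q 663390, W 161, Q 30, Q 0, Q 0, W 1, Q 0, Q 0, Q 0, W 0, Q 0, W 1, Q 0, Q 0, Q 0, Q 0, Q 0, Q 0, Q 0, Q 0, Q 0,
  Q 0, W 2, Q 1, Q 0, W 1, Q 0, Q 0, Q 0, Q 0, Q 6, W 209, Q 0, W 17, Q 30, W 161, Q 0],
  [Q 11700, Q 180, W 11, Q 24, W 71, Q 0, Q 0, W 3, Q 0, Q 2, W 3, Q 4, Q 0, Q 0, Q 0, Q 0, Q 0, Q 2, Q 0, Q 0, Q 0,
  Q 0, W 5, Q 2, W 3, Q 0, Q 8, Q 4, Q 12, W 3, Q 4, W 59, Q 0, W 27, Q 0, Q 20, W 179],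
  [Q 20412, W 323, Q 60, Q 0, Q 0, Q 4, Q 0, Q 0, Q 0, Q 2, Q 0, W 3, W 3, Q 0, Q 12, Q 0, Q 2, Q 0, Q 0, Q 0, Q 0,
  Q 0, Q 6, W 1, Q 0, W 3, Q 0, Q 0, Q 0, Q 0, Q 12, W 83, Q 0, Q 12, Q 12, W 35, Q 0]]

/-- the faithful rows at a multiple -/
def fr1 : List (List ℤ) := [
  [W 65, W 1, W 1, Q 1, W 2, Q 0, Q 0, W 0, Q 1, Q 0, Q 1, W 1, W 0, W 0, W 0, Q 0, W 0, Q 0, Q 0, Q 0, W 2, Q 1, Q 0,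
  Q 0, W 0, W 1, W 0, Q 1, W 4, W 2, W 1, W 5, W 1, Q 2, W 5, W 9, W 20],
  [W 77, W 13, Q 2, W 1, W 5, W 0, Q 0, W 2, Q 2, W 0, W 0, W 1, Q 1, Q 0, W 2, Q 0, Q 0, W 0, Q 0, Q 0, W 2, W 1,
  Q 0, Q 0, Q 1, Q 1, Q 0, W 0, Q 1, W 0, Q 2, Q 6, Q 4, W 1, W 2, W 5, W 14],
  [W 428, Q 19, Q 3, W 1, W 5, W 0, Q 0, Q 3, Q 0, Q 0, W 1, W 0, Q 1, Q 1, Q 1, Q 0, Q 0, Q 1, Q 0, Q 0, Q 0, Q 1,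
  W 2, W 1, W 0, W 0, Q 0, W 0, W 4, W 1, W 0, W 8, W 7, W 0, W 8, W 20, W 68],
  [W 1364, W 84, W 4, W 3, W 23, Q 0, Q 0, Q 1, W 1, W 0, Q 0, W 0, W 0, Q 1, W 4, Q 0, Q 0, Q 0, Q 0, Q 0, W 2, Q 2,
  Q 3, Q 2, Q 1, Q 0, W 1, W 0, Q 5, Q 0, W 0, W 20, W 3, W 4, Q 0, W 4, Q 21],
  [W 1715, W 51, W 3, W 0, Q 3, Q 0, Q 0, W 4, W 0, Q 0, W 0, Q 0, W 0, W 0, W 0, Q 0, Q 0, W 0, Q 0, Q 0, Q 3, W 0,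
  Q 0, Q 0, W 0, W 1, Q 1, W 0, W 12, W 0, W 3, W 35, Q 2, W 3, W 5, W 19, W 140],
  [W 2144, Q 31, W 0, Q 1, W 2, Q 1, Q 0, Q 2, W 0, Q 0, Q 1, W 0, Q 0, Q 0, Q 0, Q 0, Q 0, Q 0, Q 0, Q 0, Q 3, W 1,
  Q 3, Q 2, Q 2, Q 1, W 0, Q 0, W 1, W 2, Q 3, Q 15, W 13, W 0, W 14, W 48, W 209],
  [W 3002, W 58, Q 5, Q 1, W 14, W 0, Q 0, W 4, W 0, Q 0, Q 0, W 2, Q 1, Q 0, W 2, Q 0, Q 0, Q 0, Q 0, Q 0, Q 3, Q 1,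
  W 2, W 1, W 0, Q 1, Q 1, Q 1, Q 7, Q 0, Q 1, Q 21, W 13, Q 5, W 2, W 10, W 104],
  [W 4289, W 129, W 1, W 0, W 32, Q 0, Q 0, W 0, Q 1, Q 0, Q 1, W 1, W 0, Q 1, W 4, Q 0, Q 0, Q 1, Q 0, Q 0, Q 3, W 0,
  Q 0, Q 0, W 0, Q 0, W 0, Q 1, Q 11, Q 1, W 1, W 5, Q 14, Q 2, Q 0, W 9, W 68],
  [W 6719, W 63, Q 0, Q 2, W 5, Q 1, Q 0, W 3, Q 0, Q 1, Q 0, Q 0, Q 0, Q 0, Q 0, Q 0, Q 1, Q 0, Q 0, Q 0, W 2, Q 2,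
  Q 0, Q 0, Q 0, Q 1, Q 2, Q 0, W 3, Q 0, Q 0, Q 0, Q 8, Q 0, W 14, W 63, W 419],
  [W 18953, Q 54, Q 6, Q 0, Q 0, W 0, Q 0, Q 3, Q 0, W 0, Q 2, Q 2, Q 1, Q 1, Q 1, Q 0, Q 0, W 0, Q 0, Q 0, Q 0, Q 0,
  Q 0, Q 0, W 0, W 0, Q 0, Q 1, W 8, Q 2, W 1, W 53, Q 0, Q 2, W 8, W 65, W 728],
  [W 21449, W 9, Q 6, W 3, Q 24, Q 0, Q 0, Q 1, Q 0, Q 0, W 1, Q 2, Q 0, Q 0, Q 0, Q 0, Q 0, Q 1, Q 0, Q 0, Q 0, W 0,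
  Q 0, Q 0, Q 1, Q 0, W 1, Q 1, W 6, W 1, W 1, W 29, Q 8, Q 10, Q 0, W 49, W 614],
  [W 23099, Q 260, W 11, W 3, W 23, Q 0, Q 0, W 1, Q 0, Q 0, Q 0, Q 0, Q 0, Q 0, Q 0, Q 0, Q 1, Q 0, Q 0, Q 0, Q 0,
  W 0, Q 6, W 3, W 1, Q 0, W 1, Q 0, Q 2, Q 0, Q 0, Q 0, Q 8, W 7, Q 0, W 19, Q 210],
  [W 24023, W 87, Q 8, Q 5, W 38, Q 0, Q 0, Q 2, W 0, Q 0, Q 0, Q 0, Q 0, W 0, W 3, Q 0, Q 0, Q 0, Q 0, Q 0, W 2, W 0,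
  Q 0, Q 0, W 1, Q 2, W 0, Q 0, W 9, Q 0, Q 0, Q 0, Q 2, Q 16, Q 6, W 39, Q 294],
  [W 27026, W 530, W 2, W 5, W 53, Q 1, Q 0, Q 5, Q 0, Q 0, Q 0, Q 1, Q 1, W 0, W 6, Q 0, Q 0, Q 0, Q 0, Q 0, Q 0,
  Q 0, W 2, W 1, Q 1, W 0, Q 2, Q 1, W 2, Q 0, Q 1, Q 21, Q 0, W 10, Q 3, W 18, Q 189],
  [W 30887, Q 216, W 7, W 2, W 26, W 0, Q 0, Q 4, Q 1, Q 0, W 0, Q 0, W 1, W 0, Q 2, Q 0, Q 0, Q 0, Q 0, Q 0, Q 0,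
  Q 0, Q 0, Q 0, Q 0, Q 1, Q 1, Q 0, Q 12, Q 3, Q 0, Q 48, W 17, Q 0, W 2, W 55, W 755],
  [W 42899, W 339, W 3, W 0, W 32, Q 0, Q 0, W 3, W 0, Q 0, W 0, Q 0, Q 0, Q 0, Q 0, Q 0, Q 0, Q 0, Q 0, Q 0, Q 0,
  W 0, W 5, Q 4, Q 0, Q 0, W 0, Q 0, W 3, Q 3, Q 0, W 119, Q 2, Q 0, Q 0, Q 20, W 419],
  [W 51974, W 134, W 6, Q 3, Q 27, Q 0, Q 0, W 0, W 0, Q 0, Q 0, Q 1, Q 0, Q 0, Q 0, Q 0, W 0, Q 0, Q 0, Q 0, Q 0,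
  Q 0, W 2, W 1, W 0, Q 0, W 0, W 0, Q 15, Q 0, Q 5, Q 105, Q 18, W 6, Q 0, W 54, W 944],
  [W 60059, Q 100, W 11, W 1, W 29, Q 0, Q 0, W 0, Q 0, Q 0, Q 0, Q 0, Q 1, W 0, Q 5, Q 0, Q 0, Q 0, Q 0, Q 0, Q 0,
  Q 1, Q 0, Q 0, W 0, Q 0, W 3, Q 1, W 4, Q 0, Q 4, W 83, W 7, W 3, Q 0, Q 20, W 20],
  [W 64349, W 29, W 13, Q 3, W 8, Q 0, Q 0, Q 1, Q 1, Q 0, Q 1, W 1, Q 0, Q 0, Q 0, Q 0, Q 0, Q 1, Q 0, Q 0, Q 0, Q 0,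
  Q 0, Q 0, Q 1, Q 0, Q 1, W 0, W 26, Q 1, Q 2, W 89, Q 6, W 1, Q 0, Q 10, W 1034],
  [W 75074, W 514, Q 13, W 4, Q 3, Q 0, Q 0, W 6, Q 1, Q 0, Q 0, Q 1, Q 0, Q 0, Q 0, Q 0, Q 0, Q 0, Q 0, Q 0, Q 0,
  Q 1, Q 3, Q 2, Q 1, Q 0, W 0, Q 1, Q 1, Q 0, Q 1, Q 105, W 1, Q 1, Q 0, Q 5, W 734],
  [W 75074, W 514, Q 13, Q 1, W 50, Q 0, Q 0, Q 2, Q 1, Q 0, Q 0, Q 1, Q 0, Q 0, Q 0, Q 0, Q 0, Q 0, Q 0, Q 0, Q 3,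
  Q 1, Q 3, Q 2, W 1, Q 0, W 0, W 1, W 13, Q 0, Q 1, Q 105, W 1, Q 1, Q 0, Q 5, Q 210],
  [W 85799, W 39, W 7, Q 5, W 38, Q 0, Q 0, Q 2, Q 1, Q 0, W 0, Q 0, Q 0, Q 0, Q 0, Q 0, Q 0, W 0, Q 0, Q 0, Q 3, Q 2,
  Q 0, Q 0, Q 2, Q 0, W 0, Q 0, Q 14, W 0, Q 0, W 119, Q 14, Q 8, Q 0, W 39, Q 510],
  [W 104246, W 566, Q 9, Q 0, Q 0, W 0, Q 0, Q 0, Q 0, Q 0, Q 1, Q 1, W 0, Q 0, Q 3, Q 0, Q 0, Q 0, Q 0, Q 0, Q 0,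
  Q 0, W 2, W 1, Q 0, Q 3, Q 0, Q 0, Q 0, W 2, W 2, W 110, Q 0, W 14, Q 3, Q 9, Q 0],
  [W 108107, Q 180, Q 4, Q 3, Q 27, Q 2, Q 0, W 0, Q 1, Q 0, Q 0, Q 0, Q 1, Q 0, W 2, Q 0, Q 0, Q 0, Q 0, Q 0, Q 0,
  Q 0, Q 0, Q 0, W 0, Q 0, W 0, W 0, Q 15, Q 0, W 3, W 83, W 17, W 3, Q 12, W 27, W 944],
  [W 133055, Q 576, Q 0, W 5, W 53, Q 1, Q 0, W 3, Q 0, Q 0, Q 0, Q 0, Q 0, Q 1, Q 4, Q 0, W 0, Q 0, Q 0, Q 0, Q 0,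
  Q 0, Q 0, Q 0, Q 0, Q 1, Q 2, Q 0, W 11, Q 0, Q 0, Q 0, Q 0, Q 0, Q 9, W 63, Q 756],
  [W 135134, Q 225, Q 17, W 2, W 26, Q 0, Q 0, Q 4, W 0, Q 0, Q 0, W 2, Q 1, W 0, Q 5, Q 0, Q 0, Q 0, Q 0, Q 0, Q 0,
  Q 0, Q 3, Q 2, Q 0, Q 0, Q 1, Q 0, Q 12, Q 0, W 2, Q 21, Q 18, W 2, Q 0, Q 25, W 755],
  [W 139775, W 511, Q 0, Q 4, W 59, Q 0, Q 0, Q 0, Q 0, Q 1, Q 0, Q 0, Q 0, Q 1, Q 4, Q 0, Q 0, Q 0, Q 0, Q 0, W 2,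
  W 1, Q 0, Q 0, Q 0, W 1, Q 0, Q 0, Q 16, Q 0, Q 0, Q 0, W 7, Q 0, W 5, Q 0, Q 336],
  [W 160379, Q 324, W 11, Q 0, Q 0, W 0, Q 0, Q 0, Q 0, Q 0, Q 1, Q 0, Q 0, Q 0, Q 0, Q 0, Q 1, Q 0, Q 0, Q 0, Q 0,
  Q 0, W 5, Q 4, Q 0, W 0, Q 0, Q 0, Q 0, W 2, Q 0, Q 120, Q 0, Q 0, Q 15, W 35, Q 0],
  [W 180179, W 275, W 3, Q 3, W 8, W 0, Q 0, W 1, W 0, Q 0, Q 0, Q 0, Q 0, Q 0, Q 0, Q 0, Q 0, Q 0, Q 0, Q 0, Q 0,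
  Q 0, Q 6, W 3, Q 2, W 0, Q 1, Q 0, W 5, Q 0, Q 0, Q 0, W 5, Q 8, Q 15, Q 4, W 629],
  [W 189539, Q 540, Q 12, Q 0, Q 0, Q 0, Q 0, Q 3, Q 0, Q 1, W 0, Q 0, W 0, Q 1, W 4, Q 0, Q 0, W 0, Q 0, Q 0, Q 0,
  Q 0, Q 0, Q 0, W 0, Q 0, Q 0, Q 1, W 8, W 0, Q 4, W 35, Q 0, W 3, Q 0, Q 60, W 728],
  [W 193049, W 89, Q 6, Q 6, Q 54, Q 0, Q 0, Q 1, Q 0, Q 0, W 0, W 1, Q 0, Q 0, Q 0, Q 0, Q 0, Q 0, Q 0, Q 0, Q 0,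
  Q 0, Q 0, Q 0, Q 1, Q 0, W 1, Q 1, W 14, Q 3, W 1, Q 90, Q 0, W 13, Q 0, W 49, Q 945],
  [W 208493, Q 594, Q 18, Q 0, Q 0, W 0, Q 0, W 2, Q 0, Q 0, Q 1, Q 2, Q 0, W 0, W 3, Q 0, Q 0, Q 1, Q 0, Q 0, Q 0,
  Q 0, Q 0, Q 0, Q 1, W 0, Q 0, W 0, Q 9, Q 1, Q 2, W 89, Q 0, W 1, W 8, W 5, Q 729],
  [W 225224, W 584, W 8, W 5, Q 90, Q 0, Q 0, Q 2, Q 0, Q 0, Q 0, W 0, Q 0, Q 0, Q 0, Q 0, Q 0, Q 0, Q 0, Q 0, Q 0,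
  Q 0, Q 3, Q 2, W 1, Q 0, Q 2, Q 0, Q 6, Q 0, Q 3, W 104, Q 0, Q 7, Q 0, W 24, Q 630],
  [W 331694, Q 81, W 14, Q 0, Q 0, Q 1, Q 0, Q 0, Q 0, W 0, Q 0, Q 1, Q 0, Q 0, Q 0, Q 0, Q 0, Q 0, Q 0, Q 0, Q 0,
  Q 0, W 2, W 1, Q 0, Q 1, Q 0, Q 0, Q 0, Q 0, W 2, Q 105, Q 0, Q 9, W 14, Q 81, Q 0],
  [W 5849, W 89, Q 6, W 11, Q 36, Q 0, Q 0, Q 2, Q 0, Q 2, Q 2, W 1, Q 0, Q 0, Q 0, Q 0, Q 0, W 0, Q 0, Q 0, Q 0, Q 0,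
  W 5, W 3, Q 2, Q 0, W 3, W 1, W 5, Q 2, W 1, Q 30, Q 0, Q 14, Q 0, W 9, Q 90],
  [W 10205, Q 162, W 29, Q 0, Q 0, W 1, Q 0, Q 0, Q 0, Q 2, Q 0, Q 2, Q 2, Q 0, W 5, Q 0, W 0, Q 0, Q 0, Q 0, Q 0,
  Q 0, Q 6, Q 4, Q 0, Q 2, Q 0, Q 0, Q 0, Q 0, W 5, Q 42, Q 0, W 5, W 5, Q 18, Q 0]]

/-- the faithful rows at a multiple -/
def fr2 : List (List ℤ) := [
  [W 65, W 1, W 1, Q 1, W 2, Q 0, Q 0, W 0, Q 1, Q 0, Q 1, W 1, W 0, W 0, W 0, Q 0, W 0, Q 0, Q 0, Q 0, Q 3, Q 1, Q 0,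
  Q 0, W 0, W 1, W 0, Q 1, W 4, W 2, W 1, W 5, W 4, Q 2, W 5, W 9, W 20],
  [W 77, W 13, Q 2, W 1, W 5, W 0, Q 0, W 2, Q 2, Q 2, W 0, W 1, Q 1, Q 0, W 2, Q 0, Q 0, W 0, Q 0, Q 0, Q 0, Q 1,
  Q 0, Q 0, Q 1, Q 1, Q 0, W 0, Q 1, W 0, Q 2, Q 6, W 7, W 1, W 2, W 5, W 14],
  [W 428, Q 19, Q 3, W 1, W 5, W 0, Q 0, Q 3, Q 0, Q 0, W 1, W 0, Q 1, Q 1, Q 1, Q 0, Q 0, Q 1, Q 0, Q 0, Q 3, W 1,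
  Q 6, Q 1, W 0, W 0, Q 0, W 0, W 4, W 1, W 0, W 8, W 1, W 0, W 8, W 20, W 68],
  [W 1364, W 84, W 4, W 3, W 23, Q 0, Q 0, Q 1, W 1, Q 2, Q 0, W 0, W 0, Q 1, W 4, Q 0, Q 0, Q 0, Q 0, Q 0, Q 0, W 0,
  W 5, W 0, Q 1, Q 0, W 1, W 0, Q 5, Q 0, W 0, W 20, Q 8, W 4, Q 0, W 4, Q 21],
  [W 1715, W 51, W 3, W 0, Q 3, Q 0, Q 0, W 4, W 0, Q 0, W 0, Q 0, W 0, W 0, W 0, Q 0, Q 0, W 0, Q 0, Q 0, W 2, W 0,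
  Q 0, Q 0, W 0, W 1, Q 1, W 0, W 12, W 0, W 3, W 35, Q 5, W 3, W 5, W 19, W 140],
  [W 2144, Q 31, W 0, Q 1, W 2, Q 1, Q 0, Q 2, W 0, Q 0, Q 1, W 0, Q 0, Q 0, Q 0, Q 0, Q 0, Q 0, Q 0, Q 0, Q 0, Q 1,
  W 5, W 0, Q 2, Q 1, W 0, Q 0, W 1, W 2, Q 3, Q 15, Q 1, W 0, W 14, W 48, W 209],
  [W 3002, W 58, Q 5, Q 1, W 14, W 0, Q 0, W 4, W 0, Q 0, Q 0, W 2, Q 1, Q 0, W 2, Q 0, Q 0, Q 0, Q 0, Q 0, W 2, Q 1,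
  Q 6, Q 1, W 0, Q 1, Q 1, Q 1, Q 7, Q 0, Q 1, Q 21, Q 19, Q 5, W 2, W 10, W 104],
  [W 4289, W 129, W 1, W 0, W 32, Q 0, Q 0, W 0, Q 1, Q 0, Q 1, W 1, W 0, Q 1, W 4, Q 0, Q 0, Q 1, Q 0, Q 0, W 2, W 0,
  Q 0, Q 0, W 0, Q 0, W 0, Q 1, Q 11, Q 1, W 1, W 5, W 18, Q 2, Q 0, W 9, W 68],
  [W 6719, W 63, Q 0, Q 2, W 5, Q 1, Q 0, W 3, Q 0, W 1, Q 0, Q 0, Q 0, Q 0, Q 0, Q 0, Q 1, Q 0, Q 0, Q 0, Q 0, W 0,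
  Q 0, Q 0, Q 0, Q 1, Q 2, Q 0, W 3, Q 0, Q 0, Q 0, W 15, Q 0, W 14, W 63, W 419],
  [W 18953, Q 54, Q 6, Q 0, Q 0, W 0, Q 0, Q 3, Q 0, Q 2, Q 2, Q 2, Q 1, Q 1, Q 1, Q 0, Q 0, W 0, Q 0, Q 0, Q 0, Q 0,
  Q 0, Q 0, W 0, W 0, Q 0, Q 1, W 8, Q 2, W 1, W 53, Q 0, Q 2, W 8, W 65, W 728],
  [W 21449, W 9, Q 6, W 3, Q 24, Q 0, Q 0, Q 1, Q 0, Q 0, W 1, Q 2, Q 0, Q 0, Q 0, Q 0, Q 0, Q 1, Q 0, Q 0, W 2, Q 2,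
  Q 0, Q 0, Q 1, Q 0, W 1, Q 1, W 6, W 1, W 1, W 29, Q 2, Q 10, Q 0, W 49, W 614],
  [W 23099, Q 260, W 11, W 3, W 23, Q 0, Q 0, W 1, Q 0, Q 0, Q 0, Q 0, Q 0, Q 0, Q 0, Q 0, Q 1, Q 0, Q 0, Q 0, Q 3,
  Q 2, W 11, Q 2, W 1, Q 0, W 1, Q 0, Q 2, Q 0, Q 0, Q 0, Q 2, W 7, Q 0, W 19, Q 210],
  [W 24023, W 87, Q 8, Q 5, W 38, Q 0, Q 0, Q 2, W 0, Q 0, Q 0, Q 0, Q 0, W 0, W 3, Q 0, Q 0, Q 0, Q 0, Q 0, Q 3, W 0,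
  Q 0, Q 0, W 1, Q 2, W 0, Q 0, W 9, Q 0, Q 0, Q 0, Q 5, Q 16, Q 6, W 39, Q 294],
  [W 27026, W 530, W 2, W 5, W 53, Q 1, Q 0, Q 5, Q 0, Q 0, Q 0, Q 1, Q 1, W 0, W 6, Q 0, Q 0, Q 0, Q 0, Q 0, Q 0,
  Q 0, Q 6, Q 1, Q 1, W 0, Q 2, Q 1, W 2, Q 0, Q 1, Q 21, Q 0, W 10, Q 3, W 18, Q 189],
  [W 30887, Q 216, W 7, W 2, W 26, W 0, Q 0, Q 4, Q 1, Q 0, W 0, Q 0, W 1, W 0, Q 2, Q 0, Q 0, Q 0, Q 0, Q 0, Q 0,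
  Q 0, Q 0, Q 0, Q 0, Q 1, Q 1, Q 0, Q 12, Q 3, Q 0, Q 48, Q 9, Q 0, W 2, W 55, W 755],
  [W 42899, W 339, W 3, W 0, W 32, Q 0, Q 0, W 3, W 0, Q 0, W 0, Q 0, Q 0, Q 0, Q 0, Q 0, Q 0, Q 0, Q 0, Q 0, Q 3,
  Q 2, Q 12, W 1, Q 0, Q 0, W 0, Q 0, W 3, Q 3, Q 0, W 119, W 12, Q 0, Q 0, Q 20, W 419],
  [W 51974, W 134, W 6, Q 3, Q 27, Q 0, Q 0, W 0, W 0, Q 0, Q 0, Q 1, Q 0, Q 0, Q 0, Q 0, W 0, Q 0, Q 0, Q 0, Q 0,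
  Q 0, Q 6, Q 1, W 0, Q 0, W 0, W 0, Q 15, Q 0, Q 5, Q 105, W 8, W 6, Q 0, W 54, W 944],
  [W 60059, Q 100, W 11, W 1, W 29, Q 0, Q 0, W 0, Q 0, Q 0, Q 0, Q 0, Q 1, W 0, Q 5, Q 0, Q 0, Q 0, Q 0, Q 0, W 2,
  W 1, Q 0, Q 0, W 0, Q 0, W 3, Q 1, W 4, Q 0, Q 4, W 83, W 1, W 3, Q 0, Q 20, W 20],
  [W 64349, W 29, W 13, Q 3, W 8, Q 0, Q 0, Q 1, Q 1, Q 0, Q 1, W 1, Q 0, Q 0, Q 0, Q 0, Q 0, Q 1, Q 0, Q 0, Q 0, Q 0,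
  Q 0, Q 0, Q 1, Q 0, Q 1, W 0, W 26, Q 1, Q 2, W 89, Q 15, W 1, Q 0, Q 10, W 1034],
  [W 75074, W 514, Q 13, W 4, Q 3, Q 0, Q 0, W 6, Q 1, Q 0, Q 0, Q 1, Q 0, Q 0, Q 0, Q 0, Q 0, Q 0, Q 0, Q 0, Q 3,
  W 1, W 5, W 0, Q 1, Q 0, W 0, Q 1, Q 1, Q 0, Q 1, Q 105, Q 13, Q 1, Q 0, Q 5, W 734],
  [W 75074, W 514, Q 13, Q 1, W 50, Q 0, Q 0, Q 2, Q 1, Q 0, Q 0, Q 1, Q 0, Q 0, Q 0, Q 0, Q 0, Q 0, Q 0, Q 0, W 2,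
  Q 1, W 5, W 0, W 1, Q 0, W 0, W 1, W 13, Q 0, Q 1, Q 105, W 4, Q 1, Q 0, Q 5, Q 210],
  [W 85799, W 39, W 7, Q 5, W 38, Q 0, Q 0, Q 2, Q 1, Q 0, W 0, Q 0, Q 0, Q 0, Q 0, Q 0, Q 0, W 0, Q 0, Q 0, Q 0, W 0,
  Q 0, Q 0, Q 2, Q 0, W 0, Q 0, Q 14, W 0, Q 0, W 119, W 0, Q 8, Q 0, W 39, Q 510],
  [W 104246, W 566, Q 9, Q 0, Q 0, W 0, Q 0, Q 0, Q 0, Q 0, Q 1, Q 1, W 0, Q 0, Q 3, Q 0, Q 0, Q 0, Q 0, Q 0, Q 0,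
  Q 0, Q 6, Q 1, Q 0, Q 3, Q 0, Q 0, Q 0, W 2, W 2, W 110, Q 0, W 14, Q 3, Q 9, Q 0],
  [W 108107, Q 180, Q 4, Q 3, Q 27, Q 2, Q 0, W 0, Q 1, Q 0, Q 0, Q 0, Q 1, Q 0, W 2, Q 0, Q 0, Q 0, Q 0, Q 0, Q 0,
  Q 0, Q 0, Q 0, W 0, Q 0, W 0, W 0, Q 15, Q 0, W 3, W 83, Q 9, W 3, Q 12, W 27, W 944],
  [W 133055, Q 576, Q 0, W 5, W 53, Q 1, Q 0, W 3, Q 0, Q 0, Q 0, Q 0, Q 0, Q 1, Q 4, Q 0, W 0, Q 0, Q 0, Q 0, Q 0,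
  Q 0, Q 0, Q 0, Q 0, Q 1, Q 2, Q 0, W 11, Q 0, Q 0, Q 0, Q 0, Q 0, Q 9, W 63, Q 756],
  [W 135134, Q 225, Q 17, W 2, W 26, Q 0, Q 0, Q 4, W 0, Q 0, Q 0, W 2, Q 1, W 0, Q 5, Q 0, Q 0, Q 0, Q 0, Q 0, Q 0,
  Q 0, W 5, W 0, Q 0, Q 0, Q 1, Q 0, Q 12, Q 0, W 2, Q 21, W 8, W 2, Q 0, Q 25, W 755],
  [W 139775, W 511, Q 0, Q 4, W 59, Q 0, Q 0, Q 0, Q 0, W 1, Q 0, Q 0, Q 0, Q 1, Q 4, Q 0, Q 0, Q 0, Q 0, Q 0, Q 0,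
  Q 1, Q 0, Q 0, Q 0, W 1, Q 0, Q 0, Q 16, Q 0, Q 0, Q 0, Q 16, Q 0, W 5, Q 0, Q 336],
  [W 160379, Q 324, W 11, Q 0, Q 0, W 0, Q 0, Q 0, Q 0, Q 0, Q 1, Q 0, Q 0, Q 0, Q 0, Q 0, Q 1, Q 0, Q 0, Q 0, Q 0,
  Q 0, Q 12, W 1, Q 0, W 0, Q 0, Q 0, Q 0, W 2, Q 0, Q 120, Q 0, Q 0, Q 15, W 35, Q 0],
  [W 180179, W 275, W 3, Q 3, W 8, W 0, Q 0, W 1, W 0, Q 0, Q 0, Q 0, Q 0, Q 0, Q 0, Q 0, Q 0, Q 0, Q 0, Q 0, Q 0,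
  Q 0, W 11, Q 2, Q 2, W 0, Q 1, Q 0, W 5, Q 0, Q 0, Q 0, W 14, Q 8, Q 15, Q 4, W 629],
  [W 189539, Q 540, Q 12, Q 0, Q 0, Q 0, Q 0, Q 3, Q 0, W 1, W 0, Q 0, W 0, Q 1, W 4, Q 0, Q 0, W 0, Q 0, Q 0, Q 0,
  Q 0, Q 0, Q 0, W 0, Q 0, Q 0, Q 1, W 8, W 0, Q 4, W 35, Q 0, W 3, Q 0, Q 60, W 728],
  [W 193049, W 89, Q 6, Q 6, Q 54, Q 0, Q 0, Q 1, Q 0, Q 0, W 0, W 1, Q 0, Q 0, Q 0, Q 0, Q 0, Q 0, Q 0, Q 0, Q 0,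
  Q 0, Q 0, Q 0, Q 1, Q 0, W 1, Q 1, W 14, Q 3, W 1, Q 90, Q 0, W 13, Q 0, W 49, Q 945],
  [W 208493, Q 594, Q 18, Q 0, Q 0, W 0, Q 0, W 2, Q 0, Q 0, Q 1, Q 2, Q 0, W 0, W 3, Q 0, Q 0, Q 1, Q 0, Q 0, Q 0,
  Q 0, Q 0, Q 0, Q 1, W 0, Q 0, W 0, Q 9, Q 1, Q 2, W 89, Q 0, W 1, W 8, W 5, Q 729],
  [W 225224, W 584, W 8, W 5, Q 90, Q 0, Q 0, Q 2, Q 0, Q 0, Q 0, W 0, Q 0, Q 0, Q 0, Q 0, Q 0, Q 0, Q 0, Q 0, Q 0,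
  Q 0, W 5, W 0, W 1, Q 0, Q 2, Q 0, Q 6, Q 0, Q 3, W 104, Q 0, Q 7, Q 0, W 24, Q 630],
  [W 331694, Q 81, W 14, Q 0, Q 0, Q 1, Q 0, Q 0, Q 0, Q 2, Q 0, Q 1, Q 0, Q 0, Q 0, Q 0, Q 0, Q 0, Q 0, Q 0, Q 0,
  Q 0, Q 6, Q 1, Q 0, Q 1, Q 0, Q 0, Q 0, Q 0, W 2, Q 105, Q 0, Q 9, W 14, Q 81, Q 0],
  [W 5849, W 89, Q 6, W 11, Q 36, Q 0, Q 0, Q 2, Q 0, W 3, Q 2, W 1, Q 0, Q 0, Q 0, Q 0, Q 0, W 0, Q 0, Q 0, Q 0, Q 0,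
  Q 12, Q 2, Q 2, Q 0, W 3, W 1, W 5, Q 2, W 1, Q 30, Q 0, Q 14, Q 0, W 9, Q 90],
  [W 10205, Q 162, W 29, Q 0, Q 0, W 1, Q 0, Q 0, Q 0, W 3, Q 0, Q 2, Q 2, Q 0, W 5, Q 0, W 0, Q 0, Q 0, Q 0, Q 0,
  Q 0, W 11, W 1, Q 0, Q 2, Q 0, Q 0, Q 0, Q 0, W 5, Q 42, Q 0, W 5, W 5, Q 18, Q 0]]

/-- the degrees -/
def bs : List ℤ := [
  Q 66, Q 78, Q 429, Q 1365, Q 1716, Q 2145, Q 3003, Q 4290, Q 6720, Q 18954, Q 21450, Q 23100, Q 24024, Q 27027,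
  Q 30888, Q 42900, Q 51975, Q 60060, Q 64350, Q 75075, Q 75075, Q 85800, Q 104247, Q 108108, Q 133056, Q 135135,
  Q 139776, Q 160380, Q 180180, Q 189540, Q 193050, Q 208494, Q 225225, Q 331695, Q 2925, Q 5103]

end data

/-- the sum of a triple -/
def sm (v : ℤ × ℤ × ℤ) : ℤ := v.1 + v.2.1 + v.2.2

/-- the exterior square of a triple -/
def lamV (v u : ℤ × ℤ × ℤ) : ℤ × ℤ × ℤ :=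
  ((v.1 * v.1 - u.1) / 2, (v.2.1 * v.2.1 - u.2.2) / 2, (v.2.2 * v.2.2 - u.2.1) / 2)

/-- the parities -/
def okL (v u : ℤ × ℤ × ℤ) : Prop := 2 ∣ v.1 * v.1 - u.1 ∧ 2 ∣ v.2.1 * v.2.1 - u.2.2 ∧ 2 ∣ v.2.2 * v.2.2 - u.2.1

/-- the faithful part of a triple -/
def prjV (v : ℤ × ℤ × ℤ) : ℤ × ℤ × ℤ := (v.1 - sm v / 3, v.2.1 - sm v / 3, v.2.2 - sm v / 3)

/-- the product of triples -/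
def mulV (v u : ℤ × ℤ × ℤ) : ℤ × ℤ × ℤ := (v.1 * u.1, v.2.1 * u.2.1, v.2.2 * u.2.2)

/-- a member of a triple -/
def g3 (v : ℤ × ℤ × ℤ) (k : ℕ) : ℤ := if k = 0 then v.1 else if k = 1 then v.2.1 else v.2.2

/-- the first seed -/
noncomputable def va (t : ℕ) : ℤ × ℤ × ℤ := prjV (lamV (tv t 0) (tv t 1))

/-- the first seed at the squares -/
noncomputable def va2 (t : ℕ) : ℤ × ℤ × ℤ := prjV (lamV (tv t 1) (tv t 2))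

/-- the second seed -/
noncomputable def vb (t : ℕ) : ℤ × ℤ × ℤ := prjV (mulV (tv t 0) (tv t 0))

/-- the third seed -/
noncomputable def vc (t : ℕ) : ℤ × ℤ × ℤ := prjV (lamV (va t) (va2 t))

/-- the rows -/
noncomputable def vF (j t : ℕ) : ℤ × ℤ × ℤ := (nth (ntd fr0 [] j) t, nth (ntd fr1 [] j) t, nth (ntd fr2 [] j) t)

/-- the cofactors -/
noncomputable def cU (c : List (List (ℤ × ℕ))) (j : ℕ) : List ℤ := comb (rowA ++ rowB) (ntd c [] j)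

theorem div_ok : ∀ t < 37, (okL (tv t 0) (tv t 1) ∧ okL (tv t 1) (tv t 2) ∧ okL (va t) (va2 t)) ∧
    3 ∣ sm (lamV (tv t 0) (tv t 1)) ∧ 3 ∣ sm (lamV (tv t 1) (tv t 2)) ∧ 3 ∣ sm (mulV (tv t 0) (tv t 0)) ∧
      3 ∣ sm (lamV (va t) (va2 t)) := by
  unfold okL
  decide +kernel

/-- the check of a row -/
noncomputable def rowB' (j : ℕ) : Bool :=
  frcLZ (cU cfa j) fun a => frcLZ (cU cfb j) fun b => frcLZ (cU cfc j) fun c => allL (fun t => allL (fun k =>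
    decide (g3 (vF j t) k = g3 (va t) k * nth a t + g3 (vb t) k * nth b t + g3 (vc t) k * nth c t)) [0, 1, 2])
    (List.range 37)

theorem row_ok : ∀ j < 36, rowB' j = true := by decide +kernel

/-- half the norms -/
def mW (j : ℕ) : ℕ := if j < 34 then 1 else 2

theorem gram_ok : ∀ i < 36, ∀ j < 36, ip dat (ntd fr0 [] i) (ntd fr0 [] j) + ip dat (ntd fr1 [] i) (ntd fr1 [] j) +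
    ip dat (ntd fr2 [] i) (ntd fr2 [] j) = (dat.N : ℤ) * (6 * gam mW (fun _ => 0) i j) := by decide +kernel

theorem reg_ok : ∀ t < 37, ∀ k < 3, ∑ j ∈ range 36, nth bs j * g3 (vF j t) k =
    if t = 0 then (if k = 0 then 2 * (dat.N : ℤ) else -(dat.N : ℤ)) else 0 := by decide +kernel

theorem sep_ok : ∀ j < 36, ∀ i < j, mW j = 2 → mW i = 2 → ¬ (vF j 0).1 + 1 * (vF i 0).1 ∣ 4 * ((3 * dat.N : ℕ) : ℤ) ∧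
    ¬ (vF j 0).1 + -1 * (vF i 0).1 ∣ 4 * ((3 * dat.N : ℕ) : ℤ) := by decide +kernel

theorem cnt_ok : ∑ y ∈ range (36 + 0), (if sdeg 36 (fun _ => 0) (nth bs) y % 2 = 1 then mlt 36 mW (fun _ => 0) y
    else 0) = 16 := by decide +kernel

end Cfsg.Agent.MK.S4.Z
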